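import Mathlib.LinearAlgebra.TensorPower.Symmetric
import Mathlib.LinearAlgebra.Multilinear.Basis
import Mathlib.RingTheory.MvPolynomial.Homogeneous
import Mathlib.LinearAlgebra.Finsupp.LinearCombination
import Mathlib.Algebra.MvPolynomial.Basic

/-! Symmetric powers: universal property, functoriality and comparison with polynomials. -/

universe u v w

set_option linter.unusedSectionVars false

noncomputable section

namespace Groth.Agent.PPLib

open TensorProduct

variable {R : Type u} [CommRing R] {ι : Type u} [Fintype ι]
variable {M : Type v} [AddCommGroup M] [Module R M] {N : Type w} [AddCommGroup N] [Module R N]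

/-- linear map out of a symmetric power attached to a symmetric multilinear map -/
def symLift (f : MultilinearMap R (fun _ : ι => M) N)
    (hf : ∀ (e : Equiv.Perm ι) (x : ι → M), f (x ∘ e) = f x) : SymmetricPower R ι M →ₗ[R] N where
  toFun := AddCon.lift (addConGen (SymmetricPower.Rel R ι M))
    (PiTensorProduct.lift f).toAddMonoidHom
    (AddCon.addConGen_le.2 fun x y h => by
      cases h with
      | perm e m =>
        rw [AddCon.ker_rel]
        simp only [LinearMap.toAddMonoidHom_coe, PiTensorProduct.lift.tprod]
        exact (hf e m).symm)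
  map_add' := map_add _
  map_smul' r x := AddCon.induction_on x fun y => (PiTensorProduct.lift f).map_smul r y

@[simp] theorem symLift_tprod (f : MultilinearMap R (fun _ : ι => M) N)
    (hf : ∀ (e : Equiv.Perm ι) (x : ι → M), f (x ∘ e) = f x) (x : ι → M) :
    symLift f hf (SymmetricPower.tprod R x) = f x :=
  PiTensorProduct.lift.tprod x

theorem sym_ext {f g : SymmetricPower R ι M →ₗ[R] N}
    (h : ∀ x : ι → M, f (SymmetricPower.tprod R x) = g (SymmetricPower.tprod R x)) : f = g :=
  LinearMap.ext_on_range (SymmetricPower.span_tprod_eq_top R ι M) h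

/-- functoriality -/
def symMap {M' : Type v} [AddCommGroup M'] [Module R M'] (j : M →ₗ[R] M') :
    SymmetricPower R ι M →ₗ[R] SymmetricPower R ι M' :=
  symLift ((SymmetricPower.tprod R).compLinearMap fun _ => j) fun e x =>
    SymmetricPower.tprod_equiv e fun i => j (x i)

@[simp] theorem symMap_tprod {M' : Type v} [AddCommGroup M'] [Module R M'] (j : M →ₗ[R] M')
    (x : ι → M) :
    symMap j (SymmetricPower.tprod R x) = SymmetricPower.tprod R (fun i => j (x i)) :=
  symLift_tprod _ _ x

variable {σ : Type*}

/-- the linear form attached to a vector of coordinates -/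
def linForm : (σ →₀ R) →ₗ[R] MvPolynomial σ R :=
  Finsupp.linearCombination R (MvPolynomial.X (R := R))

theorem linForm_single (s : σ) (r : R) : linForm (Finsupp.single s r) = r • MvPolynomial.X s := by
  simp [linForm]

theorem linForm_isHomogeneous (v : σ →₀ R) : (linForm v).IsHomogeneous 1 := by
  induction v using Finsupp.induction_linear with
  | zero => rw [map_zero]; exact MvPolynomial.isHomogeneous_zero _ _ _
  | add x y hx hy => rw [map_add]; exact hx.add hy
  | single s r =>
    rw [linForm_single, MvPolynomial.smul_eq_C_mul]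
    exact (MvPolynomial.isHomogeneous_X R s).C_mul r

/-- `v_1 ⊗ … ⊗ v_n ↦` product of linear forms -/
def symPoly : SymmetricPower R ι (σ →₀ R) →ₗ[R] MvPolynomial σ R :=
  symLift ((MultilinearMap.mkPiAlgebra R ι (MvPolynomial σ R)).compLinearMap fun _ => linForm)
    fun e x => by
      simp only [MultilinearMap.compLinearMap_apply, MultilinearMap.mkPiAlgebra_apply]
      exact Equiv.prod_comp e fun i => linForm (x i)

@[simp] theorem symPoly_tprod (x : ι → σ →₀ R) :
    symPoly (SymmetricPower.tprod R x) = ∏ i, linForm (x i) := by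
  simp [symPoly]

/-- multiplicity of a tuple -/
def mult (c : ι → σ) : σ →₀ ℕ := ∑ i, Finsupp.single (c i) 1

theorem mult_apply [DecidableEq σ] (c : ι → σ) (s : σ) :
    mult c s = Fintype.card {i // c i = s} := by
  rw [mult, Finsupp.finsetSum_apply, Fintype.card_subtype, Finset.card_filter]
  exact Finset.sum_congr rfl fun i _ => by simp [Finsupp.single_apply]

theorem exists_perm_of_mult_eq {c c' : ι → σ} (h : mult c = mult c') :
    ∃ e : Equiv.Perm ι, c = c' ∘ e := by
  classical
  have hc : ∀ s, {i // c i = s} ≃ {i // c' i = s} := fun s =>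
    Fintype.equivOfCardEq ((mult_apply c s).symm.trans (by rw [h, mult_apply]))
  exact ⟨Equiv.ofFiberEquiv hc, funext fun i => (Equiv.ofFiberEquiv_map hc i).symm⟩

theorem prod_X_eq_monomial (c : ι → σ) :
    ∏ i, (MvPolynomial.X (c i) : MvPolynomial σ R) = MvPolynomial.monomial (mult c) 1 := by
  rw [mult, MvPolynomial.monomial_sum_one]
  rfl

theorem symPoly_injective : Function.Injective (symPoly (R := R) (ι := ι) (σ := σ)) := by
  classical
  let pick : (σ →₀ ℕ) → SymmetricPower R ι (σ →₀ R) := fun d =>
    if h : ∃ c : ι → σ, mult c = d then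
      SymmetricPower.tprod R (fun i => Finsupp.single (h.choose i) 1) else 0
  let L : MvPolynomial σ R →ₗ[R] SymmetricPower R ι (σ →₀ R) :=
    (MvPolynomial.basisMonomials σ R).constr ℕ pick
  suffices hL : L ∘ₗ symPoly (R := R) (ι := ι) (σ := σ) = LinearMap.id from
    Function.LeftInverse.injective (g := L) fun x => LinearMap.congr_fun hL x
  refine sym_ext (R := R) (ι := ι) (M := σ →₀ R) (N := SymmetricPower R ι (σ →₀ R)) fun x => ?_
  suffices key : (L ∘ₗ symPoly (R := R) (ι := ι) (σ := σ)).compMultilinearMap (SymmetricPower.tprod R) =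
      (SymmetricPower.tprod R : MultilinearMap R (fun _ : ι => σ →₀ R) (SymmetricPower R ι (σ →₀ R))) from
    MultilinearMap.congr_fun key x
  refine Module.Basis.ext_multilinear (fun _ : ι => (Finsupp.basisSingleOne : Module.Basis σ R (σ →₀ R))) fun c => ?_
  have hc : ∃ c' : ι → σ, mult c' = mult c := ⟨c, rfl⟩
  simp only [Finsupp.coe_basisSingleOne, LinearMap.compMultilinearMap_apply, LinearMap.comp_apply,
    symPoly_tprod, linForm_single, one_smul, prod_X_eq_monomial]
  rw [show MvPolynomial.monomial (mult c) (1 : R) = MvPolynomial.basisMonomials σ R (mult c) from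
    (MvPolynomial.coe_basisMonomials (σ := σ) (R := R) ▸ rfl), Module.Basis.constr_basis]
  simp only [pick, dif_pos hc]
  obtain ⟨e, he⟩ := exists_perm_of_mult_eq hc.choose_spec
  conv_lhs => rw [he]
  exact SymmetricPower.tprod_equiv e fun i => Finsupp.single (c i) (1 : R)

theorem symPoly_exists_leftInverse :
    ∃ L : MvPolynomial σ R →ₗ[R] SymmetricPower R ι (σ →₀ R),
      L ∘ₗ symPoly (R := R) (ι := ι) (σ := σ) = LinearMap.id := by
  classical
  let pick : (σ →₀ ℕ) → SymmetricPower R ι (σ →₀ R) := fun d =>
    if h : ∃ c : ι → σ, mult c = d then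
      SymmetricPower.tprod R (fun i => Finsupp.single (h.choose i) 1) else 0
  refine ⟨(MvPolynomial.basisMonomials σ R).constr ℕ pick,
    sym_ext (R := R) (ι := ι) (M := σ →₀ R) (N := SymmetricPower R ι (σ →₀ R)) fun x => ?_⟩
  suffices key : ((MvPolynomial.basisMonomials σ R).constr ℕ pick ∘ₗ
      symPoly (R := R) (ι := ι) (σ := σ)).compMultilinearMap (SymmetricPower.tprod R) =
      (SymmetricPower.tprod R : MultilinearMap R (fun _ : ι => σ →₀ R) (SymmetricPower R ι (σ →₀ R))) from
    MultilinearMap.congr_fun key x
  refine Module.Basis.ext_multilinear (fun _ : ι => (Finsupp.basisSingleOne : Module.Basis σ R (σ →₀ R))) fun c => ?_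
  have hc : ∃ c' : ι → σ, mult c' = mult c := ⟨c, rfl⟩
  simp only [Finsupp.coe_basisSingleOne, LinearMap.compMultilinearMap_apply, LinearMap.comp_apply,
    symPoly_tprod, linForm_single, one_smul, prod_X_eq_monomial]
  rw [show MvPolynomial.monomial (mult c) (1 : R) = MvPolynomial.basisMonomials σ R (mult c) from
    (MvPolynomial.coe_basisMonomials (σ := σ) (R := R) ▸ rfl), Module.Basis.constr_basis]
  simp only [pick, dif_pos hc]
  obtain ⟨e, he⟩ := exists_perm_of_mult_eq hc.choose_spec
  conv_lhs => rw [he]
  exact SymmetricPower.tprod_equiv e fun i => Finsupp.single (c i) (1 : R)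

/-- two multilinear maps agreeing on a generating family are equal -/
theorem multilinear_ext_span {κ : Type*} (v : κ → M) (hv : Submodule.span R (Set.range v) = ⊤)
    {f g : MultilinearMap R (fun _ : ι => M) N}
    (h : ∀ c : ι → κ, f (fun i => v (c i)) = g (fun i => v (c i))) : f = g := by
  have hsurj : Function.Surjective (Finsupp.linearCombination R v) := by
    rw [← LinearMap.range_eq_top, Finsupp.range_linearCombination, hv]
  have hc : f.compLinearMap (fun _ => Finsupp.linearCombination R v) =
      g.compLinearMap (fun _ => Finsupp.linearCombination R v) :=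
    Module.Basis.ext_multilinear (fun _ : ι => (Finsupp.basisSingleOne : Module.Basis κ R (κ →₀ R)))
      fun c => by simpa using h c
  ext x
  choose y hy using fun i => hsurj (x i)
  have := MultilinearMap.congr_fun hc y
  simpa [hy] using this

/-- two linear maps on a symmetric power agreeing on products of generators are equal -/
theorem sym_ext_span {κ : Type*} (v : κ → M) (hv : Submodule.span R (Set.range v) = ⊤)
    {f g : SymmetricPower R ι M →ₗ[R] N}
    (h : ∀ c : ι → κ, f (SymmetricPower.tprod R fun i => v (c i)) = g (SymmetricPower.tprod R fun i => v (c i))) :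
    f = g :=
  sym_ext fun x => MultilinearMap.congr_fun (multilinear_ext_span v hv
    (f := f.compMultilinearMap (SymmetricPower.tprod R)) (g := g.compMultilinearMap (SymmetricPower.tprod R)) h) x

/-- a split injection into a free module induces an injection into polynomials -/
theorem symPoly_symMap_injective {M : Type u} [AddCommGroup M] [Module R M] {σ : Type u}
    (j : M →ₗ[R] σ →₀ R) (r : (σ →₀ R) →ₗ[R] M) (h : r ∘ₗ j = LinearMap.id) :
    Function.Injective (symPoly ∘ₗ symMap (ι := ι) j) := by
  refine symPoly_injective.comp (Function.LeftInverse.injective (g := symMap r) fun x => ?_)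
  refine LinearMap.congr_fun (sym_ext (f := symMap r ∘ₗ symMap j) (g := LinearMap.id) fun y => ?_) x
  simp [← LinearMap.comp_apply, h]

end Groth.Agent.PPLib

end
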