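import Groth.Agent.PPLib.Basic
import Groth.Agent.PPLib.SymPow
import Mathlib.RingTheory.MvPolynomial.Ideal
import Mathlib.RingTheory.Smooth.Basic

/-! The canonical maps `Sym^n Ω → I^n/I^(n+1)` and a criterion for differential smoothness. -/

universe u

set_option linter.unusedSectionVars false

noncomputable section

namespace Groth.Agent.PPLib

open PP16 TensorProduct

section congr

variable {R : Type*} [CommRing R] {J : Ideal R} {α : Type*}

theorem prod_sub_prod_mem {x y : α → R} (hxy : ∀ i, x i - y i ∈ J ^ 2) (hy : ∀ i, y i ∈ J)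
    (s : Finset α) : ∏ i ∈ s, x i - ∏ i ∈ s, y i ∈ J ^ (s.card + 1) := by
  classical
  induction s using Finset.induction_on with
  | empty => simp
  | insert a s ha ih =>
    rw [Finset.prod_insert ha, Finset.prod_insert ha, Finset.card_insert_of_notMem ha]
    have hx : ∏ i ∈ s, x i ∈ J ^ s.card := by
      rw [← Finset.prod_const]
      exact Ideal.prod_mem_prod fun i _ => by
        simpa using add_mem (Ideal.pow_le_self two_ne_zero (hxy i)) (hy i)
    rw [show x a * ∏ i ∈ s, x i - y a * ∏ i ∈ s, y i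
      = (x a - y a) * ∏ i ∈ s, x i + y a * (∏ i ∈ s, x i - ∏ i ∈ s, y i) by ring]
    refine add_mem ?_ ?_
    · have h := Ideal.mul_mem_mul (hxy a) hx
      rwa [← pow_add, show 2 + s.card = s.card + 1 + 1 by omega] at h
    · rw [pow_succ' J (s.card + 1)]
      exact Ideal.mul_mem_mul (hy a) ih

end congr

variable (A B : Type u) [CommRing A] [CommRing B] [Algebra A B]

/-- a chosen representative of a differential -/
def rep (ω : KaehlerDifferential A B) : B ⊗[A] B :=
  (KaehlerDifferential.fromIdeal_surjective A B ω).choose.1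

theorem rep_mem (ω : KaehlerDifferential A B) : rep A B ω ∈ KaehlerDifferential.ideal A B :=
  (KaehlerDifferential.fromIdeal_surjective A B ω).choose.2

theorem tensorProductTo_rep (ω : KaehlerDifferential A B) :
    (KaehlerDifferential.D A B).tensorProductTo (rep A B ω) = ω :=
  (KaehlerDifferential.D_tensorProductTo _).trans
    (KaehlerDifferential.fromIdeal_surjective A B ω).choose_spec

theorem sub_mem_sq {p q : B ⊗[A] B} (hp : p ∈ KaehlerDifferential.ideal A B)
    (hq : q ∈ KaehlerDifferential.ideal A B)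
    (h : (KaehlerDifferential.D A B).tensorProductTo p = (KaehlerDifferential.D A B).tensorProductTo q) :
    p - q ∈ KaehlerDifferential.ideal A B ^ 2 :=
  (Ideal.toCotangent_eq (x := ⟨p, hp⟩) (y := ⟨q, hq⟩)).1
    (by rw [← KaehlerDifferential.D_tensorProductTo, ← KaehlerDifferential.D_tensorProductTo]; exact h)

theorem rep_smul_sub (b : B) (ω : KaehlerDifferential A B) :
    rep A B (b • ω) - b • rep A B ω ∈ KaehlerDifferential.ideal A B ^ 2 := by
  refine sub_mem_sq A B (rep_mem A B _) (Submodule.smul_of_tower_mem _ b (rep_mem A B ω)) ?_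
  rw [map_smul, tensorProductTo_rep, tensorProductTo_rep]

theorem rep_add_sub (ω η : KaehlerDifferential A B) :
    rep A B (ω + η) - (rep A B ω + rep A B η) ∈ KaehlerDifferential.ideal A B ^ 2 := by
  refine sub_mem_sq A B (rep_mem A B _) (add_mem (rep_mem A B ω) (rep_mem A B η)) ?_
  rw [map_add, tensorProductTo_rep, tensorProductTo_rep, tensorProductTo_rep]

theorem rep_D_sub (b : B) :
    rep A B (KaehlerDifferential.D A B b) - ((1 : B) ⊗ₜ[A] b - b ⊗ₜ[A] (1 : B))
      ∈ KaehlerDifferential.ideal A B ^ 2 := by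
  refine sub_mem_sq A B (rep_mem A B _) (KaehlerDifferential.one_smul_sub_smul_one_mem_ideal A b) ?_
  rw [tensorProductTo_rep, map_sub, Derivation.tensorProductTo_tmul, Derivation.tensorProductTo_tmul,
    one_smul, Derivation.map_one_eq_zero, smul_zero, sub_zero]

variable {ι : Type u} [Fintype ι]

/-- the class in `I^n/I^(n+1)` of an element of `I^n` -/
def cls (x : B ⊗[A] B) (hx : x ∈ KaehlerDifferential.ideal A B ^ Fintype.card ι) :
    grI A B (Fintype.card ι) := Submodule.Quotient.mk ⟨x, hx⟩

theorem cls_eq {x y : B ⊗[A] B} {hx : x ∈ KaehlerDifferential.ideal A B ^ Fintype.card ι}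
    {hy : y ∈ KaehlerDifferential.ideal A B ^ Fintype.card ι}
    (h : x - y ∈ KaehlerDifferential.ideal A B ^ (Fintype.card ι + 1)) :
    cls A B x hx = cls A B y hy :=
  (Submodule.Quotient.eq _).2 h

theorem prod_rep_mem (x : ι → KaehlerDifferential A B) :
    ∏ i, rep A B (x i) ∈ KaehlerDifferential.ideal A B ^ Fintype.card ι :=
  prod_mem_pow _ Finset.univ _ fun i _ => rep_mem A B (x i)

/-- the multilinear map `(ω_i) ↦` class of the product of representatives -/
def phiMulti : MultilinearMap B (fun _ : ι => KaehlerDifferential A B) (grI A B (Fintype.card ι)) where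
  toFun x := cls A B _ (prod_rep_mem A B x)
  map_update_add' {inst} m i ω η := by
    change cls A B _ _ = Submodule.Quotient.mk (⟨_, _⟩ + ⟨_, _⟩)
    refine (Submodule.Quotient.eq _).2 ?_
    change (∏ j, rep A B (Function.update m i (ω + η) j)) - ((∏ j, rep A B (Function.update m i ω j))
        + ∏ j, rep A B (Function.update m i η j)) ∈ KaehlerDifferential.ideal A B ^ (Fintype.card ι + 1)
    simp only [← Function.comp_apply (f := rep A B), Function.comp_update]
    simp only [Finset.prod_update_of_mem (Finset.mem_univ i), ← add_mul, ← sub_mul]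
    have h := Ideal.mul_mem_mul (rep_add_sub A B ω η)
      (prod_mem_pow _ (Finset.univ \ {i}) (rep A B ∘ m) fun j _ => rep_mem A B (m j))
    rw [← pow_add] at h
    refine Ideal.pow_le_pow_right ?_ h
    have hpos : 0 < Fintype.card ι := Fintype.card_pos_iff.2 ⟨i⟩
    simp [Finset.card_univ_sdiff]
    omega
  map_update_smul' {inst} m i b ω := by
    change cls A B _ _ = Submodule.Quotient.mk (b • ⟨_, _⟩)
    refine (Submodule.Quotient.eq _).2 ?_
    change (∏ j, rep A B (Function.update m i (b • ω) j))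
        - b • (∏ j, rep A B (Function.update m i ω j)) ∈ KaehlerDifferential.ideal A B ^ (Fintype.card ι + 1)
    simp only [← Function.comp_apply (f := rep A B), Function.comp_update]
    simp only [Finset.prod_update_of_mem (Finset.mem_univ i), ← smul_mul_assoc, ← sub_mul]
    have h := Ideal.mul_mem_mul (rep_smul_sub A B b ω)
      (prod_mem_pow _ (Finset.univ \ {i}) (rep A B ∘ m) fun j _ => rep_mem A B (m j))
    rw [← pow_add] at h
    refine Ideal.pow_le_pow_right ?_ h
    have hpos : 0 < Fintype.card ι := Fintype.card_pos_iff.2 ⟨i⟩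
    simp [Finset.card_univ_sdiff]
    omega

/-- the canonical map `Sym^n Ω → I^n/I^(n+1)` -/
def phi : SymmetricPower B ι (KaehlerDifferential A B) →ₗ[B] grI A B (Fintype.card ι) :=
  symLift (phiMulti A B) fun e x =>
    cls_eq A B (by simp [Equiv.prod_comp e (fun i => rep A B (x i))])

theorem phi_tprod (x : ι → KaehlerDifferential A B) :
    phi A B (SymmetricPower.tprod B x) = cls A B _ (prod_rep_mem A B x) :=
  symLift_tprod _ _ x

theorem phi_tprod_D (b : ι → B) :
    phi A B (SymmetricPower.tprod B fun i => KaehlerDifferential.D A B (b i)) = zetaProd A B b :=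
  (phi_tprod A B _).trans <| cls_eq A B <|
    prod_sub_prod_mem (fun i => rep_D_sub A B (b i))
      (fun i => KaehlerDifferential.one_smul_sub_smul_one_mem_ideal A (b i)) Finset.univ

theorem pow_le_span_sup (n : ℕ) :
    (KaehlerDifferential.ideal A B ^ n).restrictScalars B ≤
      Submodule.span B (Set.range fun b : Fin n → B => ∏ i, ((1 : B) ⊗ₜ[A] b i - b i ⊗ₜ[A] (1 : B)))
        ⊔ (KaehlerDifferential.ideal A B ^ (n + 1)).restrictScalars B := by
  induction n with
  | zero =>
    intro x _
    have hx : x - Algebra.TensorProduct.lmul' A x • (1 : B ⊗[A] B) ∈ KaehlerDifferential.ideal A B := by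
      simp [RingHom.mem_ker, Algebra.smul_def, Algebra.TensorProduct.algebraMap_apply]
    refine Submodule.mem_sup.2 ⟨_, ?_, _, ?_, add_sub_cancel (Algebra.TensorProduct.lmul' A x • 1) x⟩
    · exact Submodule.smul_mem _ _ (Submodule.subset_span ⟨0, by simp⟩)
    · simpa using hx
  | succ n ih =>
    intro x hx
    rw [Submodule.restrictScalars_mem, pow_succ] at hx
    induction hx using Submodule.mul_induction_on' with
    | add a _ b _ ha hb => exact add_mem ha hb
    | mem_mul_mem a ha c hc =>
      have hc' : c ∈ Submodule.span B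
          (Set.range fun s : B => (1 : B) ⊗ₜ[A] s - s ⊗ₜ[A] (1 : B)) := by
        rw [KaehlerDifferential.submodule_span_range_eq_ideal]; exact hc
      obtain ⟨p, hp, r, hr, rfl⟩ := Submodule.mem_sup.1 (ih ha)
      rw [add_mul]
      refine Submodule.add_mem_sup ?_ ?_
      · have h := Submodule.mul_mem_mul hp hc'
        rw [Submodule.span_mul_span] at h
        refine Submodule.span_mono ?_ h
        rintro _ ⟨_, ⟨b, rfl⟩, _, ⟨s, rfl⟩, rfl⟩
        exact ⟨Fin.snoc b s, by simp [Fin.prod_univ_castSucc]⟩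
      · rw [Submodule.restrictScalars_mem, pow_succ _ (n + 1)]
        exact Ideal.mul_mem_mul hr hc

theorem phi_surjective : Function.Surjective (phi A B (ι := ι)) := by
  rw [← LinearMap.range_eq_top, eq_top_iff]
  intro y _
  obtain ⟨⟨x, hx⟩, rfl⟩ := Submodule.Quotient.mk_surjective _ y
  obtain ⟨p, hp, r, hr, hpr⟩ := Submodule.mem_sup.1 (pow_le_span_sup A B _ hx)
  have hp' : ∀ q ∈ Submodule.span B (Set.range fun b : Fin (Fintype.card ι) → B =>
      ∏ i, ((1 : B) ⊗ₜ[A] b i - b i ⊗ₜ[A] (1 : B))),
      ∃ hq : q ∈ KaehlerDifferential.ideal A B ^ Fintype.card ι,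
        cls A B q hq ∈ LinearMap.range (phi A B (ι := ι)) := by
    intro q hq
    induction hq using Submodule.span_induction with
    | mem q hq =>
      obtain ⟨b, rfl⟩ := hq
      have hq := Equiv.prod_comp (Fintype.equivFin ι)
        fun i => (1 : B) ⊗ₜ[A] b i - b i ⊗ₜ[A] (1 : B)
      have hm : ∏ i, ((1 : B) ⊗ₜ[A] b i - b i ⊗ₜ[A] (1 : B))
          ∈ KaehlerDifferential.ideal A B ^ Fintype.card ι := by
        rw [← hq]
        exact prod_mem_pow _ Finset.univ _
          fun i _ => KaehlerDifferential.one_smul_sub_smul_one_mem_ideal A _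
      refine ⟨hm, _, (phi_tprod_D A B fun i => b (Fintype.equivFin ι i)).trans ?_⟩
      exact cls_eq A B (by rw [hq, sub_self]; exact zero_mem _)
    | zero => exact ⟨zero_mem _, by change Submodule.Quotient.mk 0 ∈ _; exact zero_mem _⟩
    | add a c _ _ ha hc =>
      obtain ⟨ha, ha'⟩ := ha
      obtain ⟨hc, hc'⟩ := hc
      exact ⟨add_mem ha hc, add_mem ha' hc'⟩
    | smul s a _ ha =>
      obtain ⟨ha, ha'⟩ := ha
      exact ⟨Submodule.smul_of_tower_mem _ s ha, Submodule.smul_mem _ s ha'⟩
  obtain ⟨hq, hq'⟩ := hp' p hp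
  have heq : cls A B p hq = Submodule.Quotient.mk ⟨x, hx⟩ := (Submodule.Quotient.eq _).2 (by
    change p - x ∈ KaehlerDifferential.ideal A B ^ (Fintype.card ι + 1)
    rw [← hpr, sub_add_cancel_left]
    exact neg_mem hr)
  rwa [← heq]

/-- first-order lifting data into a test ring gives injectivity of `phi` -/
theorem phi_injective {T : Type u} [CommRing T] [Algebra A T] [Algebra B T] [IsScalarTower A B T]
    (m : Ideal T) (hm : m ^ (Fintype.card ι + 1) = ⊥)
    (ψ : KaehlerDifferential A B →ₗ[B] T) (hψ : ∀ ω, ψ ω ∈ m)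
    (g : B →ₐ[A] T) (hg : ∀ b, g b - algebraMap B T b - ψ (KaehlerDifferential.D A B b) ∈ m ^ 2)
    {σ : Type u} (j : KaehlerDifferential A B →ₗ[B] σ →₀ B)
    (r : (σ →₀ B) →ₗ[B] KaehlerDifferential A B) (hjr : r ∘ₗ j = LinearMap.id)
    (L : T →ₗ[B] MvPolynomial σ B)
    (hL : ∀ x : ι → KaehlerDifferential A B, L (∏ i, ψ (x i)) = ∏ i, linForm (j (x i))) :
    Function.Injective (phi A B (ι := ι)) := by
  let F : B ⊗[A] B →ₐ[B] T :=
    Algebra.TensorProduct.lift (Algebra.ofId B T) g fun _ _ => Commute.all _ _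
  have hF : ∀ b : B, F ((1 : B) ⊗ₜ[A] b - b ⊗ₜ[A] (1 : B)) - ψ (KaehlerDifferential.D A B b) ∈ m ^ 2 :=
    fun b => by simpa [F, Algebra.ofId_apply] using hg b
  have hlin : ∀ y ∈ KaehlerDifferential.ideal A B,
      F y - ψ ((KaehlerDifferential.D A B).tensorProductTo y) ∈ m ^ 2 ∧ F y ∈ m := by
    intro y hy
    rw [← Submodule.restrictScalars_mem B, ← KaehlerDifferential.submodule_span_range_eq_ideal] at hy
    induction hy using Submodule.span_induction with
    | mem y hy =>
      obtain ⟨b, rfl⟩ := hy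
      have h1 := hF b
      refine ⟨?_, ?_⟩
      · simpa [Derivation.tensorProductTo_tmul] using h1
      · simpa using add_mem (Ideal.pow_le_self two_ne_zero h1) (hψ (KaehlerDifferential.D A B b))
    | zero => simp
    | add a c _ _ ha hc =>
      refine ⟨?_, by rw [map_add]; exact add_mem ha.2 hc.2⟩
      rw [map_add, map_add, map_add, add_sub_add_comm]
      exact add_mem ha.1 hc.1
    | smul s a _ ha =>
      refine ⟨?_, by rw [map_smul]; exact Submodule.smul_of_tower_mem _ s ha.2⟩
      rw [map_smul, map_smul, map_smul, ← smul_sub]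
      exact Submodule.smul_of_tower_mem _ s ha.1
  have hFI : (KaehlerDifferential.ideal A B).map F ≤ m :=
    Ideal.map_le_iff_le_comap.2 fun y hy => (hlin y hy).2
  let χ : grI A B (Fintype.card ι) →ₗ[B] MvPolynomial σ B :=
    Submodule.liftQ _ (L ∘ₗ F.toLinearMap ∘ₗ Submodule.subtype _) fun y hy => by
      have h := Ideal.pow_right_mono hFI (Fintype.card ι + 1)
      rw [← Ideal.map_pow, hm] at h
      have h0 : F (y : B ⊗[A] B) = 0 := Ideal.mem_bot.1 (h (Ideal.mem_map_of_mem _ hy))
      simp [h0]
  suffices h : χ ∘ₗ phi A B = symPoly ∘ₗ symMap j by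
    refine Function.Injective.of_comp (f := χ) ?_
    rw [← LinearMap.coe_comp, h]
    exact symPoly_symMap_injective j r hjr
  refine sym_ext fun x => ?_
  rw [LinearMap.comp_apply, LinearMap.comp_apply, phi_tprod, symMap_tprod, symPoly_tprod, ← hL]
  change L (F (∏ i, rep A B (x i))) = _
  rw [map_prod]
  congr 1
  have h : ∏ i, F (rep A B (x i)) - ∏ i, ψ (x i) ∈ m ^ (Fintype.card ι + 1) :=
    prod_sub_prod_mem (fun i => by
      simpa [tensorProductTo_rep] using (hlin _ (rep_mem A B (x i))).1) (fun i => hψ _) Finset.univ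
  rwa [hm, Ideal.mem_bot, sub_eq_zero] at h

/-- a derivation of a ring into a square-zero first-order thickening lifts by formal smoothness -/
theorem exists_lift [Algebra.FormallySmooth A B] {T : Type u} [CommRing T] [Algebra A T] [Algebra B T]
    [IsScalarTower A B T] (m : Ideal T) {k : ℕ} (hm : m ^ k = ⊥)
    (ψ : KaehlerDifferential A B →ₗ[B] T) (hψ : ∀ ω, ψ ω ∈ m) :
    ∃ g : B →ₐ[A] T, ∀ b, g b - algebraMap B T b - ψ (KaehlerDifferential.D A B b) ∈ m ^ 2 := by
  have hnil : IsNilpotent (m ^ 2) :=
    ⟨k, by rw [← pow_mul, mul_comm, pow_mul, hm, Ideal.zero_eq_bot, pow_two, Ideal.bot_mul]⟩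
  let h₀ : B → T ⧸ m ^ 2 := fun b =>
    Ideal.Quotient.mk _ (algebraMap B T b + ψ (KaehlerDifferential.D A B b))
  let h : B →ₐ[A] T ⧸ m ^ 2 :=
    { toFun := h₀
      map_one' := by simp [h₀]
      map_zero' := by simp [h₀]
      map_add' := fun a b => by simp only [h₀, ← map_add]; congr 1; simp only [map_add]; ring
      map_mul' := fun a b => by
        simp only [h₀, ← map_mul]
        rw [Ideal.Quotient.eq, Derivation.leibniz, map_add, map_smul, map_smul, Algebra.smul_def,
          Algebra.smul_def, map_mul, pow_two]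
        convert neg_mem (Ideal.mul_mem_mul (hψ (KaehlerDifferential.D A B a))
          (hψ (KaehlerDifferential.D A B b))) using 1
        ring
      commutes' := fun a => by
        simp [h₀, ← IsScalarTower.algebraMap_apply] }
  refine ⟨Algebra.FormallySmooth.lift (m ^ 2) hnil h, fun b => ?_⟩
  rw [sub_sub, ← Ideal.Quotient.eq]
  exact Algebra.FormallySmooth.mk_lift (m ^ 2) hnil h b

section vars

variable {σ : Type u} (n : ℕ)

/-- truncated polynomial ring -/
abbrev Trunc (σ : Type u) (n : ℕ) : Type u :=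
  MvPolynomial σ B ⧸ MvPolynomial.idealOfVars σ B ^ (n + 1)

theorem homogeneousComponent_eq_zero {p : MvPolynomial σ B}
    (hp : p ∈ MvPolynomial.idealOfVars σ B ^ (n + 1)) :
    MvPolynomial.homogeneousComponent n p = 0 :=
  MvPolynomial.homogeneousComponent_eq_zero' _ _ fun d hd => by
    have := (MvPolynomial.mem_pow_idealOfVars_iff _ p).1 hp d hd
    omega

/-- the degree `n` part -/
def top : Trunc B σ n →ₗ[B] MvPolynomial σ B :=
  Submodule.liftQ ((MvPolynomial.idealOfVars σ B ^ (n + 1)).restrictScalars B)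
      (MvPolynomial.homogeneousComponent n) (fun _ hp => homogeneousComponent_eq_zero B n hp) ∘ₗ
    (Submodule.Quotient.restrictScalarsEquiv B _).symm.toLinearMap

theorem top_mk (p : MvPolynomial σ B) :
    top B n (Ideal.Quotient.mk _ p) = MvPolynomial.homogeneousComponent n p := rfl

theorem linForm_mem (v : σ →₀ B) : linForm v ∈ MvPolynomial.idealOfVars σ B := by
  induction v using Finsupp.induction_linear with
  | zero => simp
  | add x y hx hy => rw [map_add]; exact add_mem hx hy
  | single s r =>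
    rw [linForm_single, MvPolynomial.smul_eq_C_mul]
    exact Ideal.mul_mem_left _ _ (Ideal.subset_span ⟨s, rfl⟩)

/-- differential smoothness from a projective `Ω` and truncated exponential maps -/
theorem isDiffSmooth_of_lifts (j : KaehlerDifferential A B →ₗ[B] σ →₀ B)
    (r : (σ →₀ B) →ₗ[B] KaehlerDifferential A B) (hjr : r ∘ₗ j = LinearMap.id)
    (hg : ∀ n : ℕ, ∀ (m : Ideal (Trunc B σ n)) (ψ : KaehlerDifferential A B →ₗ[B] Trunc B σ n),
      m = (MvPolynomial.idealOfVars σ B).map (Ideal.Quotient.mk _) →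
      (∀ ω, ψ ω = Ideal.Quotient.mk _ (linForm (j ω))) →
      ∃ g : B →ₐ[A] Trunc B σ n,
        ∀ b, g b - algebraMap B _ b - ψ (KaehlerDifferential.D A B b) ∈ m ^ 2) :
    IsDiffSmooth A B := by
  refine ⟨Module.Projective.of_split j r hjr, fun ι _ => ⟨phi A B, phi_tprod_D A B, ?_, phi_surjective A B⟩⟩
  let ψ : KaehlerDifferential A B →ₗ[B] Trunc B σ (Fintype.card ι) :=
    (Ideal.Quotient.mkₐ B _).toLinearMap ∘ₗ linForm ∘ₗ j
  obtain ⟨g, hg⟩ := hg (Fintype.card ι) _ ψ rfl fun _ => rfl
  refine phi_injective A B _ (quot_pow (MvPolynomial.idealOfVars σ B) _) ψ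
    (fun ω => Ideal.mem_map_of_mem _ (linForm_mem B (j ω))) g hg j r hjr (top B _) fun x => ?_
  rw [show ∏ i, ψ (x i) = Ideal.Quotient.mk _ (∏ i, linForm (j (x i))) from
    (map_prod (Ideal.Quotient.mk _) (fun i => linForm (j (x i))) Finset.univ).symm,
    top_mk]
  refine MvPolynomial.homogeneousComponent_of_mem ?_ |>.trans (if_pos rfl)
  simpa using MvPolynomial.IsHomogeneous.prod Finset.univ (fun i => linForm (j (x i))) (fun _ => 1)
    fun i _ => linForm_isHomogeneous (j (x i))

end vars

theorem isDiffSmooth_of_formallySmooth [Algebra.FormallySmooth A B] : IsDiffSmooth A B := by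
  obtain ⟨s, hs⟩ := Module.projective_def'.1
    (inferInstance : Module.Projective B (KaehlerDifferential A B))
  exact isDiffSmooth_of_lifts A B s _ hs fun n m ψ hm hψ => by
    subst hm
    exact exists_lift A B _ (quot_pow (MvPolynomial.idealOfVars _ B) (n + 1)) ψ
      fun ω => hψ ω ▸ Ideal.mem_map_of_mem _ (linForm_mem B _)

end Groth.Agent.PPLib

end
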