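import Groth.Agent.PPLib.Basic
import Mathlib.RingTheory.IsTensorProduct

/-! Principal parts commute with base change. -/

universe u

set_option linter.unusedSectionVars false

noncomputable section

namespace Groth.Agent.PPLib

open PP16 TensorProduct

attribute [local instance] PP16.mapAlgebra PP16.isScalarTower_mapAlgebra

theorem exists_desc (n : ℕ) (A B A' B' : Type u) [CommRing A] [CommRing B] [Algebra A B]
    [CommRing A'] [CommRing B'] [Algebra A' B'] [Algebra A A'] [Algebra B B'] [Algebra A B']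
    [IsScalarTower A A' B'] [IsScalarTower A B B'] [Algebra.IsPushout A B A' B']
    {Q : Type u} [CommRing Q] (ιB : B' →+* Q) (ιP : P n A B →+* Q)
    (hc : ∀ b, ιB (algebraMap B B' b) = ιP (algebraMap B _ b)) :
    ∃ Ψ : P n A' B' →+* Q, (∀ x, Ψ (algebraMap B' _ x) = ιB x) ∧
      ∀ p, Ψ (PP16.map n A B A' B' p) = ιP p := by
  let : Algebra A' Q := (ιB.comp (algebraMap A' B')).toAlgebra
  let : Algebra A Q := (ιB.comp (algebraMap A B')).toAlgebra
  have htower : IsScalarTower A A' Q := IsScalarTower.of_algebraMap_eq fun a => by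
    change ιB (algebraMap A B' a) = ιB (algebraMap A' B' (algebraMap A A' a))
    rw [← IsScalarTower.algebraMap_apply]
  let f : B' →ₐ[A'] Q := { ιB with commutes' := fun _ => rfl }
  let g₀ : B →ₐ[A] Q :=
    { ιP.comp (dn n A B).toRingHom with
      commutes' := fun a => by
        change ιP (dn n A B (algebraMap A B a)) = ιB (algebraMap A B' a)
        rw [AlgHom.commutes, IsScalarTower.algebraMap_apply A B (P n A B), ← hc,
          ← IsScalarTower.algebraMap_apply A B] }
  let g₁ : B' →ₐ[A] Q :=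
    Algebra.pushoutDesc (R := A) (S := B) (R' := A') B' g₀
      (IsScalarTower.toAlgHom A A' Q) (fun x y => Commute.all (g₀ x) _)
  have hg₁A' : ∀ x : A', g₁ (algebraMap A' B' x) = algebraMap A' Q x := fun x =>
    Algebra.pushoutDesc_right _ _ _ _ x
  have hg₁B : ∀ b : B, g₁ (algebraMap B B' b) = ιP (dn n A B b) := fun b =>
    Algebra.pushoutDesc_left _ _ _ _ b
  let g : B' →ₐ[A'] Q := { g₁.toRingHom with commutes' := hg₁A' }
  let J : Ideal Q := (augIdeal n A B).map ιP
  have hJn : J ^ (n + 1) = ⊥ := augIdeal_map_pow ιP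
  have hJ : ∀ x, g x - f x ∈ J := by
    intro x
    rw [← Ideal.Quotient.eq]
    refine AlgHom.congr_fun (Algebra.IsPushout.algHom_ext (R := A) (S := B) (R' := A') (S' := B')
      (f := (Ideal.Quotient.mkₐ A J).comp g₁)
      (g := (Ideal.Quotient.mkₐ A J).comp ({ ιB with commutes' := fun _ => rfl } : B' →ₐ[A] Q))
      (AlgHom.ext fun a => congrArg (Ideal.Quotient.mk J) (hg₁A' a))
      (AlgHom.ext fun b => ?_)) x
    refine Ideal.Quotient.eq.2 ?_
    change g₁ (algebraMap B B' b) - ιB (algebraMap B B' b) ∈ J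
    rw [hg₁B, hc, ← map_sub]
    exact Ideal.mem_map_of_mem _ (dn_sub_mem b)
  refine ⟨(liftP (n := n) f g J hJ hJn).toRingHom, fun x => liftP_algebraMap _ _ _ _ _ x, fun p => ?_⟩
  refine RingHom.congr_fun (ringHom_ext
    (f := (liftP (n := n) f g J hJ hJn).toRingHom.comp (PP16.map n A B A' B').toRingHom) (g := ιP)
    (fun b => ?_) fun b => ?_) p
  · simp only [AlgHom.toRingHom_eq_coe, RingHom.comp_apply, RingHom.coe_coe]
    rw [map_algebraMap, liftP_algebraMap]
    exact hc b
  · simp only [AlgHom.toRingHom_eq_coe, RingHom.comp_apply, RingHom.coe_coe]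
    rw [map_dn, liftP_dn]
    exact hg₁B b

theorem isPushout_P (n : ℕ) (A B A' B' : Type u) [CommRing A] [CommRing B] [Algebra A B]
    [CommRing A'] [CommRing B'] [Algebra A' B'] [Algebra A A'] [Algebra B B'] [Algebra A B']
    [IsScalarTower A A' B'] [IsScalarTower A B B'] [Algebra.IsPushout A B A' B'] :
    Algebra.IsPushout B (P n A B) B' (P n A' B') := by
  obtain ⟨Ψ, hΨB, hΨP⟩ := exists_desc (Q := B' ⊗[B] P n A B) n A B A' B'
    (Algebra.TensorProduct.includeLeftRingHom : B' →+* B' ⊗[B] P n A B)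
    (Algebra.TensorProduct.includeRight : P n A B →ₐ[B] B' ⊗[B] P n A B).toRingHom
    (fun b => by
      change algebraMap B B' b ⊗ₜ[B] (1 : P n A B) = (1 : B') ⊗ₜ[B] algebraMap B (P n A B) b
      rw [Algebra.algebraMap_eq_smul_one, Algebra.algebraMap_eq_smul_one, TensorProduct.smul_tmul])
  let Φ : B' ⊗[B] P n A B →ₐ[B] P n A' B' :=
    Algebra.TensorProduct.lift (IsScalarTower.toAlgHom B B' (P n A' B'))
      (IsScalarTower.toAlgHom B (P n A B) (P n A' B')) (fun x y => Commute.all (IsScalarTower.toAlgHom B B' (P n A' B') x) _)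
  have hΦB : ∀ x, Φ (x ⊗ₜ[B] (1 : P n A B)) = algebraMap B' (P n A' B') x := fun x => by
    simp [Φ]
  have hΦP : ∀ x, Φ ((1 : B') ⊗ₜ[B] x) = PP16.map n A B A' B' x := fun x => by
    simp [Φ]; rfl
  have h₁ : Φ.toRingHom.comp Ψ = RingHom.id _ :=
    ringHom_ext (fun b => by
        change Φ (Ψ (algebraMap B' _ b)) = _
        rw [hΨB]; exact hΦB b)
      (fun b => by
        change Φ (Ψ (dn n A' B' b)) = dn n A' B' b
        obtain ⟨x, hx⟩ : ∃ x, x = b := ⟨b, rfl⟩
        refine (Algebra.IsPushout.out (R := A) (S := B) (R' := A') (S' := B')).inductionOn b _ ?_ ?_ ?_ ?_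
        · simp
        · intro a
          change Φ (Ψ (dn n A' B' (algebraMap A' B' a))) = _
          rw [AlgHom.commutes, IsScalarTower.algebraMap_apply A' B' (P n A' B'), hΨB]
          exact (hΦB _).trans (by
            change _ = dn n A' B' (algebraMap A' B' a)
            rw [AlgHom.commutes, ← IsScalarTower.algebraMap_apply])
        · intro c y hy
          rw [Algebra.smul_def, map_mul, map_mul, map_mul, hy]
          congr 1
          rw [← map_dn n A B A' B', hΨP]
          exact hΦP _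
        · intro y y' hy hy'
          rw [map_add, map_add, map_add, hy, hy'])
  have h₂ : Ψ.comp Φ.toRingHom = RingHom.id _ := by
    refine RingHom.ext fun x => ?_
    induction x using TensorProduct.induction_on with
    | zero => simp
    | add x y hx hy => rw [map_add, map_add, hx, hy]
    | tmul a p =>
      have hap : a ⊗ₜ[B] p = (a ⊗ₜ[B] (1 : P n A B)) * ((1 : B') ⊗ₜ[B] p) := by simp
      change Ψ (Φ (a ⊗ₜ[B] p)) = a ⊗ₜ[B] p
      rw [hap, map_mul, map_mul, hΦB, hΦP, hΨB, hΨP]
      rfl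
  let e₀ : B' ⊗[B] P n A B ≃+* P n A' B' := RingEquiv.ofRingHom Φ.toRingHom Ψ h₁ h₂
  let : Algebra (P n A B) (B' ⊗[B] P n A B) := Algebra.TensorProduct.rightAlgebra
  haveI hpo : Algebra.IsPushout B (P n A B) B' (B' ⊗[B] P n A B) := TensorProduct.isPushout'
  let e : B' ⊗[B] P n A B ≃ₐ[P n A B] P n A' B' := AlgEquiv.ofRingEquiv (f := e₀) fun p => hΦP p
  exact Algebra.IsPushout.of_equiv (h := hpo) e (RingHom.ext fun x => hΦB x)

end Groth.Agent.PPLib

end
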