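import Mathlib.RingTheory.Kaehler.Basic
import Groth.Prelude.Def_PP16

/-! Universal property of the rings of principal parts. -/

universe u

set_option linter.unusedSectionVars false

noncomputable section

namespace Groth.Agent.PPLib

open PP16 TensorProduct

variable {n : ℕ} {A B : Type u} [CommRing A] [CommRing B] [Algebra A B]
variable {T : Type u} [CommRing T]

/-- the class of a tensor in `P` -/
abbrev mkP (n : ℕ) (x : B ⊗[A] B) : P n A B :=
  Ideal.Quotient.mk ((KaehlerDifferential.ideal A B) ^ (n + 1)) x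

theorem algebraMap_eq (b : B) : algebraMap B (P n A B) b = mkP n (b ⊗ₜ[A] (1 : B)) := rfl

theorem dn_eq (b : B) : dn n A B b = mkP n ((1 : B) ⊗ₜ[A] b) := rfl

theorem mkP_tmul (b c : B) : mkP n (b ⊗ₜ[A] c) = algebraMap B (P n A B) b * dn n A B c := by
  rw [algebraMap_eq, dn_eq, ← map_mul, Algebra.TensorProduct.tmul_mul_tmul, mul_one, one_mul]

/-- induction: `P` is additively generated by products of a left and a right element -/
@[elab_as_elim]
theorem induction {p : P n A B → Prop} (h0 : p 0)
    (hmul : ∀ b c, p (algebraMap B (P n A B) b * dn n A B c))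
    (hadd : ∀ x y, p x → p y → p (x + y)) (x : P n A B) : p x := by
  obtain ⟨y, rfl⟩ := Ideal.Quotient.mk_surjective x
  induction y using TensorProduct.induction_on with
  | zero => rw [map_zero]; exact h0
  | tmul b c => exact (congrArg p (mkP_tmul (n := n) (A := A) b c)).mpr (hmul b c)
  | add x y hx hy => rw [map_add]; exact hadd _ _ hx hy

theorem ringHom_ext {f g : P n A B →+* T}
    (h₁ : ∀ b, f (algebraMap B _ b) = g (algebraMap B _ b))
    (h₂ : ∀ b, f (dn n A B b) = g (dn n A B b)) : f = g :=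
  RingHom.ext fun x => by
    induction x using induction with
    | h0 => simp
    | hmul b c => rw [map_mul, map_mul, h₁, h₂]
    | hadd x y hx hy => rw [map_add, map_add, hx, hy]

theorem dn_sub_mem (b : B) : dn n A B b - algebraMap B (P n A B) b ∈ augIdeal n A B := by
  rw [algebraMap_eq, dn_eq, ← map_sub]
  exact Ideal.mem_map_of_mem _ (KaehlerDifferential.one_smul_sub_smul_one_mem_ideal A b)

theorem augIdeal_eq_span :
    augIdeal n A B = Ideal.span (Set.range fun b => dn n A B b - algebraMap B (P n A B) b) := by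
  refine (congrArg (Ideal.map (Ideal.Quotient.mk ((KaehlerDifferential.ideal A B) ^ (n + 1))))
    (KaehlerDifferential.span_range_eq_ideal A B).symm).trans ?_
  rw [Ideal.map_span, ← Set.range_comp]
  rfl

theorem augIdeal_pow : augIdeal n A B ^ (n + 1) = ⊥ := by
  rw [augIdeal, ← Ideal.map_pow, Ideal.map_quotient_self]

theorem prod_eq_zero {x : P n A B} (hx : x ∈ augIdeal n A B ^ (n + 1)) : x = 0 := by
  rwa [augIdeal_pow, Ideal.mem_bot] at hx

theorem map_augIdeal_le {J : Ideal T} (F : P n A B →+* T)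
    (h : ∀ b, F (dn n A B b) - F (algebraMap B _ b) ∈ J) : (augIdeal n A B).map F ≤ J := by
  rw [augIdeal_eq_span, Ideal.map_span, Ideal.span_le]
  rintro _ ⟨_, ⟨b, rfl⟩, rfl⟩
  rw [map_sub]; exact h b

section lift
variable [Algebra A T] (f g : B →ₐ[A] T) (J : Ideal T)
  (hJ : ∀ b, g b - f b ∈ J) (hJn : J ^ (n + 1) = ⊥)

include hJ hJn in
theorem lift_aux (x : B ⊗[A] B) (hx : x ∈ KaehlerDifferential.ideal A B ^ (n + 1)) :
    Algebra.TensorProduct.lift f g (fun _ _ => Commute.all _ _) x = 0 := by
  have hle : (KaehlerDifferential.ideal A B).map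
      (Algebra.TensorProduct.lift f g (fun _ _ => Commute.all _ _)) ≤ J := by
    rw [← KaehlerDifferential.span_range_eq_ideal, Ideal.map_span, Ideal.span_le]
    rintro _ ⟨_, ⟨b, rfl⟩, rfl⟩
    rw [map_sub, Algebra.TensorProduct.lift_tmul, Algebra.TensorProduct.lift_tmul, map_one f,
      map_one g, one_mul, mul_one]
    exact hJ b
  have h := Ideal.pow_right_mono hle (n + 1)
  rw [← Ideal.map_pow, hJn] at h
  exact Ideal.mem_bot.1 (h (Ideal.mem_map_of_mem _ hx))

/-- maps out of the ring of principal parts -/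
def liftP : P n A B →ₐ[A] T :=
  Ideal.Quotient.liftₐ _ (Algebra.TensorProduct.lift f g (fun _ _ => Commute.all _ _))
    (lift_aux f g J hJ hJn)

@[simp] theorem liftP_algebraMap (b : B) : liftP f g J hJ hJn (algebraMap B _ b) = f b := by
  change Algebra.TensorProduct.lift f g (fun _ _ => Commute.all _ _) (b ⊗ₜ[A] (1 : B)) = f b
  rw [Algebra.TensorProduct.lift_tmul, map_one g, mul_one]

@[simp] theorem liftP_dn (b : B) : liftP f g J hJ hJn (dn n A B b) = g b := by
  change Algebra.TensorProduct.lift f g (fun _ _ => Commute.all _ _) ((1 : B) ⊗ₜ[A] b) = g b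
  rw [Algebra.TensorProduct.lift_tmul, map_one f, one_mul]

end lift

theorem map_le_pow_eq_bot {R : Type u} [CommRing R] {I : Ideal R} (F : R →+* T) {m : ℕ}
    (hI : I ^ m = ⊥) : I.map F ^ m = ⊥ := by
  rw [← Ideal.map_pow, hI, Ideal.map_bot]

theorem quot_pow {R : Type u} [CommRing R] (I : Ideal R) (m : ℕ) :
    (I.map (Ideal.Quotient.mk (I ^ m))) ^ m = ⊥ := by
  rw [← Ideal.map_pow, Ideal.map_quotient_self]

theorem augIdeal_map_pow (F : P n A B →+* T) : (augIdeal n A B).map F ^ (n + 1) = ⊥ := by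
  rw [← Ideal.map_pow, augIdeal_pow, Ideal.map_bot]

theorem span_range_dn : Submodule.span B (Set.range (dn n A B)) = ⊤ := by
  refine eq_top_iff.2 fun x hx => ?_
  clear hx
  induction x using induction with
  | h0 => exact zero_mem _
  | hadd x y hx hy => exact add_mem hx hy
  | hmul b c => rw [← Algebra.smul_def]; exact Submodule.smul_mem _ _ (Submodule.subset_span ⟨c, rfl⟩)

/-- kernel criterion for a map between rings of principal parts -/
theorem ker_le_ker {A' B' : Type u} [CommRing A'] [CommRing B'] [Algebra A' B']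
    (φ : B → B') (F : P n A B →+* P n A' B') (q : P n A B →+* T)
    (hF₁ : ∀ b, F (algebraMap B _ b) = algebraMap B' _ (φ b))
    (hF₂ : ∀ b, F (dn n A B b) = dn n A' B' (φ b))
    (f₀ g₀ : B' →+* T) (hb : ∀ a, g₀ (algebraMap A' B' a) = f₀ (algebraMap A' B' a))
    (hf : ∀ b, f₀ (φ b) = q (algebraMap B _ b))
    (hg : ∀ b, g₀ (φ b) = q (dn n A B b)) (hsurj : Function.Surjective φ) :
    RingHom.ker F ≤ RingHom.ker q := by
  let : Algebra A' T := (f₀.comp (algebraMap A' B')).toAlgebra
  let f : B' →ₐ[A'] T := { f₀ with commutes' := fun _ => rfl }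
  let g : B' →ₐ[A'] T := { g₀ with commutes' := hb }
  replace hf : ∀ b, f (φ b) = q (algebraMap B _ b) := hf
  replace hg : ∀ b, g (φ b) = q (dn n A B b) := hg
  have hfg : ∀ c, g c - f c ∈ (augIdeal n A B).map q := fun c => by
    obtain ⟨b, rfl⟩ := hsurj c
    rw [hf, hg, ← map_sub]
    exact Ideal.mem_map_of_mem _ (dn_sub_mem b)
  let ψ := liftP (n := n) f g _ hfg (augIdeal_map_pow q)
  have hψ : ψ.toRingHom.comp F = q :=
    ringHom_ext (fun b => by change ψ (F _) = _; rw [hF₁, liftP_algebraMap, hf])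
      (fun b => by change ψ (F _) = _; rw [hF₂, liftP_dn, hg])
  intro x hx
  rw [RingHom.mem_ker, ← hψ, RingHom.comp_apply, RingHom.mem_ker.1 hx, map_zero]

/-- maps of `B`-algebras out of the ring of principal parts -/
theorem exists_algHom [Algebra A T] [Algebra B T] [IsScalarTower A B T] (g : B →ₐ[A] T) (J : Ideal T)
    (hJ : ∀ b, g b - algebraMap B T b ∈ J) (hJn : J ^ (n + 1) = ⊥) :
    ∃ ψ : P n A B →ₐ[B] T, ∀ b, ψ (dn n A B b) = g b :=
  ⟨{ (liftP (n := n) (IsScalarTower.toAlgHom A B T) g J hJ hJn).toRingHom with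
      commutes' := fun b => liftP_algebraMap (n := n) (IsScalarTower.toAlgHom A B T) g J hJ hJn b },
    fun b => liftP_dn (n := n) (IsScalarTower.toAlgHom A B T) g J hJ hJn b⟩

theorem algHom_ext {R : Type u} [CommRing R] [Algebra B R] {f g : P n A B →ₐ[B] R}
    (h : ∀ b, f (dn n A B b) = g (dn n A B b)) : f = g :=
  AlgHom.coe_ringHom_injective (ringHom_ext (fun b => by simp) h)

/-- augmentation `P → B` -/
def aug : P n A B →ₐ[B] B :=
  { (liftP (n := n) (AlgHom.id A B) (AlgHom.id A B) ⊥ (fun b => by simp)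
      (by rw [← Ideal.zero_eq_bot, zero_pow (by omega)])).toRingHom with
    commutes' := fun b => by
      change liftP _ _ _ _ _ (algebraMap B _ b) = _
      rw [liftP_algebraMap]; rfl }

theorem aug_algebraMap (b : B) : aug (algebraMap B (P n A B) b) = b := by simp

theorem aug_dn (b : B) : aug (dn n A B b) = b :=
  liftP_dn (n := n) (AlgHom.id A B) (AlgHom.id A B) ⊥ (fun b => by simp)
    (by rw [← Ideal.zero_eq_bot, zero_pow (by omega)]) b

theorem ker_aug : RingHom.ker (aug (n := n) (A := A) (B := B)) = augIdeal n A B := by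
  refine le_antisymm (fun x hx => ?_) ?_
  · suffices h : x - algebraMap B _ (aug x) ∈ augIdeal n A B by
      rwa [RingHom.mem_ker.1 hx, map_zero, sub_zero] at h
    clear hx
    induction x using induction with
    | h0 => simp
    | hmul b c =>
      rw [map_mul, aug_algebraMap, aug_dn, map_mul, ← mul_sub]
      exact Ideal.mul_mem_left _ _ (dn_sub_mem c)
    | hadd x y hx hy => rw [map_add, map_add, add_sub_add_comm]; exact add_mem hx hy
  · rw [augIdeal_eq_span, Ideal.span_le]
    rintro _ ⟨b, rfl⟩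
    rw [SetLike.mem_coe, RingHom.mem_ker, map_sub, aug_dn, aug_algebraMap, sub_self]

end Groth.Agent.PPLib

end
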