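import Groth.Agent.PPLib.Graded
import Mathlib.RingTheory.Nilpotent.Exp
import Mathlib.Algebra.TrivSqZeroExt.Basic

/-! In characteristic zero a free module of differentials implies differential smoothness. -/

universe u

set_option linter.unusedSectionVars false

noncomputable section

namespace Groth.Agent.PPLib

open PP16

variable (A B : Type u) [CommRing A] [CommRing B] [Algebra A B] {σ : Type u}
  (j : KaehlerDifferential A B →ₗ[B] σ →₀ B)

local notation "Q" => MvPolynomial σ B
local notation "M" => MvPolynomial.idealOfVars σ B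

/-- coefficient `b ↦ linear form of db` -/
def coefDer (b : B) : Q := linForm (j (KaehlerDifferential.D A B b))

/-- the ring hom `B → Q[ε]` -/
def dualHom : B →+* TrivSqZeroExt Q Q where
  toFun b := TrivSqZeroExt.inl (MvPolynomial.C b) + TrivSqZeroExt.inr (coefDer A B j b)
  map_one' := by simp [coefDer]
  map_zero' := by simp [coefDer]
  map_add' a b := by ext <;> simp [coefDer]
  map_mul' a b := by
    apply TrivSqZeroExt.ext <;>
      simp [coefDer, Algebra.smul_def, mul_comm, MvPolynomial.algebraMap_eq, add_comm]

/-- the extension to polynomials killing the variables -/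
def dualExt : Q →+* TrivSqZeroExt Q Q :=
  MvPolynomial.eval₂Hom (dualHom A B j) fun s => TrivSqZeroExt.inl (MvPolynomial.X s)

theorem fst_dualExt (p : Q) : (dualExt A B j p).fst = p := by
  induction p using MvPolynomial.induction_on with
  | C a => simp [dualExt, dualHom]
  | add p q hp hq => simp [hp, hq]
  | mul_X p s hp => simp [hp]; simp [dualExt]

/-- the derivation `Δ` of the polynomial ring -/
def delta : Q →+ Q where
  toFun p := (dualExt A B j p).snd
  map_zero' := by simp
  map_add' p q := by simp

theorem delta_C (b : B) : delta A B j (MvPolynomial.C b) = coefDer A B j b := by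
  simp [delta, dualExt, dualHom]

theorem delta_X (s : σ) : delta A B j (MvPolynomial.X s : Q) = 0 := by
  simp [delta, dualExt]

theorem delta_mul (p q : Q) : delta A B j (p * q) = p * delta A B j q + delta A B j p * q := by
  change (dualExt A B j (p * q)).snd = p * (dualExt A B j q).snd + (dualExt A B j p).snd * q
  rw [map_mul, TrivSqZeroExt.snd_mul, fst_dualExt, fst_dualExt]
  simp [mul_comm]

theorem delta_mem (p : Q) : delta A B j p ∈ M := by
  induction p using MvPolynomial.induction_on with
  | C a => rw [delta_C]; exact linForm_mem B _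
  | add p q hp hq => rw [map_add]; exact add_mem hp hq
  | mul_X p s hp =>
    rw [delta_mul, delta_X, mul_zero, zero_add]
    exact Ideal.mul_mem_right _ _ hp

theorem delta_mem_pow (k : ℕ) {p : Q} (hp : p ∈ M ^ k) : delta A B j p ∈ M ^ (k + 1) := by
  induction k generalizing p with
  | zero => simpa using delta_mem A B j p
  | succ k ih =>
    rw [pow_succ] at hp
    induction hp using Submodule.mul_induction_on' with
    | add a _ b _ ha hb => rw [map_add]; exact add_mem ha hb
    | mem_mul_mem a ha c hc =>
      rw [delta_mul]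
      refine add_mem ?_ (by rw [pow_succ _ (k + 1)]; exact Ideal.mul_mem_mul (ih ha) hc)
      suffices h : delta A B j c ∈ M ^ 2 by
        have h' := Ideal.mul_mem_mul ha h
        rwa [← pow_add] at h'
      induction hc using Submodule.span_induction with
      | mem x hx => obtain ⟨s, rfl⟩ := hx; rw [delta_X]; exact zero_mem _
      | zero => simp
      | add x y _ _ hx hy => rw [map_add]; exact add_mem hx hy
      | smul r x hx' hx =>
        rw [smul_eq_mul, delta_mul]
        refine add_mem (Ideal.mul_mem_left _ _ hx) ?_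
        rw [pow_two]
        exact Ideal.mul_mem_mul (delta_mem A B j r) hx'

variable (n : ℕ)

/-- `Δ` on the truncation -/
def deltaT : Trunc B σ n →ₗ[ℤ] Trunc B σ n :=
  (QuotientAddGroup.map (M ^ (n + 1)).toAddSubgroup (M ^ (n + 1)).toAddSubgroup (delta A B j)
    fun _ hp => Ideal.pow_le_pow_right (Nat.le_succ _) (delta_mem_pow A B j _ hp)).toIntLinearMap

theorem deltaT_mk (p : Q) :
    deltaT A B j n (Ideal.Quotient.mk _ p) = Ideal.Quotient.mk _ (delta A B j p) := rfl

theorem deltaT_mul (x y : Trunc B σ n) :
    deltaT A B j n (x * y) = x * deltaT A B j n y + deltaT A B j n x * y := by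
  obtain ⟨p, rfl⟩ := Ideal.Quotient.mk_surjective x
  obtain ⟨q, rfl⟩ := Ideal.Quotient.mk_surjective y
  rw [← map_mul, deltaT_mk, deltaT_mk, deltaT_mk, delta_mul, map_add, map_mul, map_mul]

theorem pow_deltaT_mem (k : ℕ) (x : Trunc B σ n) :
    (deltaT A B j n ^ k) x ∈ (M).map (Ideal.Quotient.mk (M ^ (n + 1))) ^ k := by
  induction k generalizing x with
  | zero =>
    have h : (M).map (Ideal.Quotient.mk (M ^ (n + 1))) ^ 0 = ⊤ := by simp
    exact h.symm ▸ Submodule.mem_top
  | succ k ih =>
    rw [pow_succ' (deltaT A B j n) k, Module.End.mul_apply]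
    have h := ih x
    rw [← Ideal.map_pow] at h
    obtain ⟨p, hp, hpx⟩ := (Ideal.mem_map_iff_of_surjective _ Ideal.Quotient.mk_surjective).1 h
    rw [← hpx, deltaT_mk, ← Ideal.map_pow]
    exact Ideal.mem_map_of_mem _ (delta_mem_pow A B j k hp)

theorem deltaT_pow : deltaT A B j n ^ (n + 1) = 0 :=
  LinearMap.ext fun x => by
    have h := pow_deltaT_mem A B j n (n + 1) x
    rwa [quot_pow M (n + 1), Ideal.mem_bot] at h

theorem exists_exp_lift [Algebra ℚ B] :
    ∃ g : B →ₐ[A] Trunc B σ n, ∀ b, g b - algebraMap B _ b -
      Ideal.Quotient.mk _ (coefDer A B j b) ∈ (M).map (Ideal.Quotient.mk (M ^ (n + 1))) ^ 2 := by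
  let E : Trunc B σ n → Trunc B σ n := fun x => (IsNilpotent.exp (deltaT A B j n)) x
  have hsum : ∀ x, E x =
      ∑ i ∈ Finset.range (n + 1 + 2), (i.factorial : ℚ)⁻¹ • (deltaT A B j n ^ i) x := fun x => by
    simp [E, IsNilpotent.exp_eq_sum (pow_eq_zero_of_le (show n + 1 ≤ n + 1 + 2 by omega)
      (deltaT_pow A B j n))]
  have hmul : ∀ x y, E (x * y) = E x * E y := fun x y =>
    Module.End.exp_mul_of_derivation ℤ _ (deltaT A B j n) (deltaT_mul A B j n)
      ⟨_, deltaT_pow A B j n⟩ x y
  have hconst : ∀ x, deltaT A B j n x = 0 → E x = x := fun x hx => by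
    rw [hsum, Finset.sum_range_succ', Finset.sum_eq_zero, zero_add]
    · simp
    · intro i _
      rw [pow_succ (deltaT A B j n) i, Module.End.mul_apply, hx, map_zero, smul_zero]
  have hA : ∀ a : A, deltaT A B j n (algebraMap B (Trunc B σ n) (algebraMap A B a)) = 0 := fun a => by
    change Ideal.Quotient.mk _ (delta A B j (MvPolynomial.C _)) = 0
    simp [delta_C, coefDer]
  refine ⟨{ toFun := fun b => E (algebraMap B _ b)
            map_one' := by
              rw [map_one]
              refine hconst 1 ?_
              simpa using hA 1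
            map_zero' := by simp [E]
            map_add' := fun a b => by simp [E]
            map_mul' := fun a b => by rw [map_mul, hmul]
            commutes' := fun a => by
              rw [hconst _ (hA a), ← IsScalarTower.algebraMap_apply] }, fun b => ?_⟩
  change E (algebraMap B _ b) - _ - _ ∈ _
  rw [hsum, Finset.sum_range_succ', Finset.sum_range_succ']
  have h1 : deltaT A B j n (algebraMap B (Trunc B σ n) b) = Ideal.Quotient.mk _ (coefDer A B j b) := by
    change Ideal.Quotient.mk _ (delta A B j (MvPolynomial.C b)) = _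
    rw [delta_C]
  simp only [zero_add, pow_zero, pow_one, Module.End.one_apply, Nat.factorial_zero, Nat.factorial_one,
    Nat.cast_one, inv_one, one_smul, h1, add_sub_cancel_right]
  refine sum_mem fun i _ => ?_
  exact Submodule.smul_of_tower_mem _ _ (Ideal.pow_le_pow_right (by omega) (pow_deltaT_mem A B j n (i + 1 + 1) _))

theorem isDiffSmooth_of_charZero [Algebra ℚ B] [Module.Free B (KaehlerDifferential A B)] :
    IsDiffSmooth A B := by
  let e := Module.Free.chooseBasis B (KaehlerDifferential A B)
  refine isDiffSmooth_of_lifts A B e.repr.toLinearMap e.repr.symm.toLinearMap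
    (LinearMap.ext fun x => e.repr.symm_apply_apply x) fun n m ψ hm hψ => ?_
  subst hm
  obtain ⟨g, hg⟩ := exists_exp_lift A B e.repr.toLinearMap n
  exact ⟨g, fun b => by rw [hψ]; exact hg b⟩

end Groth.Agent.PPLib

end
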