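import Groth.Agent.PPLib.Coords

/-! Monomial bases of principal parts and differential smoothness in coordinates. -/

universe u w

set_option linter.unusedSectionVars false

noncomputable section

namespace Groth.Agent.PPLib

open PP16 TensorProduct Diff16 DiffOps

variable {A B : Type u} [CommRing A] [CommRing B] [Algebra A B]
variable {ι : Type} [Fintype ι] [DecidableEq ι] {z : ι → B}

theorem finite_le (ι : Type w) [Fintype ι] (m : ℕ) : Finite {p : ι → ℕ // ∑ i, p i ≤ m} :=
  Finite.of_injective (β := ι → Fin (m + 1)) (fun p i => ⟨p.1 i,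
      Nat.lt_succ_of_le ((Finset.single_le_sum (fun j _ => Nat.zero_le (p.1 j)) (Finset.mem_univ i)).trans p.2)⟩)
    fun _ _ h => Subtype.ext (funext fun i => congrArg Fin.val (congrFun h i))

theorem exists_tuple {κ : Type u} [Fintype κ] (q : ι → ℕ) (hq : ∑ i, q i = Fintype.card κ) :
    ∃ c : κ → ι, ∀ (R : Type u) [CommMonoid R] (f : ι → R), ∏ a, f (c a) = ∏ i, f i ^ q i := by
  obtain ⟨e⟩ : Nonempty (κ ≃ Σ i, Fin (q i)) := ⟨Fintype.equivOfCardEq (by simp [hq])⟩
  refine ⟨fun a => (e a).1, fun R _ f => ?_⟩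
  rw [Equiv.prod_comp e fun x => f x.1, Fintype.prod_sigma]
  simp

theorem symPoly_symMap_tuple (bas : Module.Basis ι B (KaehlerDifferential A B))
    (hb : ∀ i, bas i = KaehlerDifferential.D A B (z i)) {κ : Type u} [Fintype κ] (c : κ → ι)
    (q : ι → ℕ) (hc : ∀ (R : Type u) [CommMonoid R] (f : ι → R), ∏ a, f (c a) = ∏ i, f i ^ q i) :
    symPoly (symMap bas.repr.toLinearMap
        (SymmetricPower.tprod B fun a => KaehlerDifferential.D A B (z (c a)))) =
      MvPolynomial.monomial (Finsupp.equivFunOnFinite.symm q) (1 : B) := by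
  rw [symMap_tprod, symPoly_tprod]
  simp only [← hb, LinearEquiv.coe_coe, Module.Basis.repr_self, linForm_single, one_smul]
  rw [hc, MvPolynomial.monomial_eq, Finsupp.prod_fintype _ _ (by simp)]
  simp

theorem graded_indep (bas : Module.Basis ι B (KaehlerDifferential A B))
    (hb : ∀ i, bas i = KaehlerDifferential.D A B (z i)) (hB : IsDiffSmooth A B) (k : ℕ)
    (s : Finset (ι → ℕ)) (hs : ∀ q ∈ s, ∑ i, q i = k) (c : (ι → ℕ) → B)
    (h : ∑ q ∈ s, c q • mon A z q ∈ KaehlerDifferential.ideal A B ^ (k + 1)) :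
    ∀ q ∈ s, c q = 0 := by
  classical
  obtain ⟨φ, hφ, hinj, -⟩ := hB.2 (ULift.{u} (Fin k))
  have hcard : Fintype.card (ULift.{u} (Fin k)) = k := by simp
  choose t ht using fun q : s =>
    exists_tuple (κ := ULift.{u} (Fin k)) q.1 ((hs q.1 q.2).trans hcard.symm)
  set x : SymmetricPower B (ULift.{u} (Fin k)) (KaehlerDifferential A B) := ∑ q : s,
    c q.1 • SymmetricPower.tprod B (fun a => KaehlerDifferential.D A B (z (t q a))) with hx
  have hmem : ∀ q : s, mon A z q.1 ∈ KaehlerDifferential.ideal A B ^ Fintype.card (ULift.{u} (Fin k)) :=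
    fun q => by rw [hcard, ← hs q.1 q.2]; exact mon_mem A z q.1
  have hval : ∀ q : s, zetaProd A B (fun a => z (t q a)) =
      (Submodule.Quotient.mk ⟨mon A z q.1, hmem q⟩ : grI A B _) := fun q =>
    congrArg Submodule.Quotient.mk (Subtype.ext (ht q (B ⊗[A] B) fun i => zeta A (z i)))
  have hφx : φ x = 0 := by
    rw [hx, map_sum]
    simp only [map_smul, hφ, hval]
    simp only [← Submodule.mkQ_apply, ← map_smul]
    rw [← map_sum]
    rw [Submodule.mkQ_apply, Submodule.Quotient.mk_eq_zero, Submodule.mem_comap]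
    simp only [map_sum, map_smul, Submodule.subtype_apply, Submodule.restrictScalars_mem, hcard]
    rwa [Finset.sum_coe_sort s fun q => c q • mon A z q]
  have hx0 : x = 0 := hinj (hφx.trans (map_zero φ).symm)
  intro q hq
  have h0 := congrArg (fun y => MvPolynomial.coeff (Finsupp.equivFunOnFinite.symm q)
    (symPoly (symMap bas.repr.toLinearMap y))) hx0
  simp only [hx, map_sum, map_smul, map_zero, MvPolynomial.coeff_sum, MvPolynomial.coeff_smul,
    MvPolynomial.coeff_zero] at h0
  simp only [symPoly_symMap_tuple bas hb _ _ (ht _), MvPolynomial.coeff_monomial,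
    EmbeddingLike.apply_eq_iff_eq, smul_eq_mul, mul_ite, mul_one, mul_zero] at h0
  rw [Finset.sum_eq_single (⟨q, hq⟩ : s) (fun b _ hb => if_neg fun e => hb (Subtype.ext e))
    (fun h => absurd (Finset.mem_univ _) h), if_pos rfl] at h0
  exact h0

theorem indep_mon (bas : Module.Basis ι B (KaehlerDifferential A B))
    (hb : ∀ i, bas i = KaehlerDifferential.D A B (z i)) (hB : IsDiffSmooth A B) (m : ℕ)
    (c : {p : ι → ℕ // ∑ i, p i ≤ m} → B) [Fintype {p : ι → ℕ // ∑ i, p i ≤ m}]
    (h : ∑ p, c p • mon A z p.1 ∈ KaehlerDifferential.ideal A B ^ (m + 1)) (p) : c p = 0 := by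
  classical
  suffices hk : ∀ k, ∀ p : {p : ι → ℕ // ∑ i, p i ≤ m}, ∑ i, p.1 i = k → c p = 0 from hk _ p rfl
  intro k
  induction k using Nat.strong_induction_on with
  | _ k ih =>
    intro p hp
    have hkm : k ≤ m := hp ▸ p.2
    let S : Finset {p : ι → ℕ // ∑ i, p i ≤ m} := Finset.univ.filter fun p => ∑ i, p.1 i = k
    let c' : (ι → ℕ) → B := fun q => if h : ∑ i, q i ≤ m then c ⟨q, h⟩ else 0
    have h' : ∑ q ∈ S.map (Function.Embedding.subtype _), c' q • mon A z q
        ∈ KaehlerDifferential.ideal A B ^ (k + 1) := by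
      rw [Finset.sum_map]
      have hsum : ∑ q ∈ S, c' q.1 • mon A z q.1
          = (∑ q, c q • mon A z q.1) - ∑ q ∈ Finset.univ.filter
              (fun p : {p : ι → ℕ // ∑ i, p i ≤ m} => ¬ ∑ i, p.1 i = k), c q • mon A z q.1 := by
        rw [eq_sub_iff_add_eq, ← Finset.sum_filter_add_sum_filter_not Finset.univ
          (fun p : {p : ι → ℕ // ∑ i, p i ≤ m} => ∑ i, p.1 i = k) (fun q => c q • mon A z q.1)]
        congr 1
        exact Finset.sum_congr rfl fun q _ => by simp [c', q.2]
      change ∑ q ∈ S, c' q.1 • mon A z q.1 ∈ _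
      rw [hsum]
      refine sub_mem (Ideal.pow_le_pow_right (by omega) h) (sum_mem fun q hq => ?_)
      rcases Nat.lt_or_ge (∑ i, q.1 i) k with hlt | hge
      · rw [ih _ hlt q rfl, zero_smul]; exact zero_mem _
      · refine Submodule.smul_of_tower_mem _ _ (Ideal.pow_le_pow_right ?_ (mon_mem A z q.1))
        have := (Finset.mem_filter.1 hq).2
        omega
    have := graded_indep bas hb hB k _ (fun q hq => by
      obtain ⟨r, hr, rfl⟩ := Finset.mem_map.1 hq
      exact (Finset.mem_filter.1 hr).2) c' h' p.1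
      (Finset.mem_map.2 ⟨p, by simp [S, hp], rfl⟩)
    simpa [c', p.2] using this

theorem mkP_smul (m : ℕ) (b : B) (x : B ⊗[A] B) : mkP m (b • x) = b • mkP m x := rfl

theorem exists_basis_P (bas : Module.Basis ι B (KaehlerDifferential A B))
    (hb : ∀ i, bas i = KaehlerDifferential.D A B (z i)) (hB : IsDiffSmooth A B) (m : ℕ) :
    ∃ b : Module.Basis {p : ι → ℕ // ∑ i, p i ≤ m} B (P m A B),
      ∀ p, b p = ∏ i, (dn m A B (z i) - algebraMap B (P m A B) (z i)) ^ (p.1 i) := by
  classical
  have := finite_le ι m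
  cases nonempty_fintype {p : ι → ℕ // ∑ i, p i ≤ m}
  have hspan : Submodule.span B (Set.range fun i => KaehlerDifferential.D A B (z i)) = ⊤ := by
    rw [← bas.span_eq]; congr 2; exact funext fun i => (hb i).symm
  have hli : LinearIndependent B fun p : {p : ι → ℕ // ∑ i, p i ≤ m} => mkP m (mon A z p.1) := by
    rw [Fintype.linearIndependent_iff]
    intro c hc p
    refine indep_mon bas hb hB m c ?_ p
    rw [← Ideal.Quotient.eq_zero_iff_mem, map_sum]
    exact hc
  refine ⟨Module.Basis.mk hli (span_mon_P hspan m).ge, fun p => ?_⟩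
  rw [Module.Basis.mk_apply]
  simp [mon, zeta, map_prod, map_pow, dn_eq, algebraMap_eq]

theorem exists_Dp (bas : Module.Basis ι B (KaehlerDifferential A B))
    (hb : ∀ i, bas i = KaehlerDifferential.D A B (z i)) (hB : IsDiffSmooth A B) :
    ∃ Dp : (ι → ℕ) → (B →ₗ[A] B), (∀ p, ∃ k : ℕ, IsDiffOpLE A B B B k (Dp p)) ∧
        ∀ p q : ι → ℕ, Dp p (∏ i, z i ^ q i) =
          ((∏ i, Nat.choose (q i) (p i) : ℕ) : B) * ∏ i, z i ^ (q i - p i) := by
  classical
  choose b hb' using fun p : ι → ℕ => exists_basis_P bas hb hB (∑ i, p i)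
  let Dp : (ι → ℕ) → (B →ₗ[A] B) := fun p =>
    ((b p).coord ⟨p, le_rfl⟩).restrictScalars A ∘ₗ (dn (∑ i, p i) A B).toLinearMap
  refine ⟨Dp, fun p => ⟨∑ i, p i, (isDiffOpLE_iff_linearize _ _).2 fun x hx => ?_⟩, fun p q => ?_⟩
  · change lin (Dp p) x = 0
    suffices h : ∀ x, lin (Dp p) x = (b p).coord ⟨p, le_rfl⟩ (mkP (∑ i, p i) x) by
      rw [h, mkP, Ideal.Quotient.eq_zero_iff_mem.2 hx, map_zero]
    intro x
    induction x using TensorProduct.induction_on with
    | zero => simp
    | add x y hx hy => rw [map_add, mkP, map_add, map_add, hx, hy]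
    | tmul u v =>
      rw [lin_tmul, mkP_tmul, ← Algebra.smul_def, map_smul]
      rfl
  · have hexp : ∏ i, dn (∑ i, p i) A B (z i) ^ q i =
        ∑ r ∈ Fintype.piFinset fun i => Finset.range (q i + 1),
          (((∏ i, Nat.choose (q i) (r i) : ℕ) : B) * ∏ i, z i ^ (q i - r i)) •
            ∏ i, (dn (∑ i, p i) A B (z i) - algebraMap B _ (z i)) ^ r i := by
      conv_lhs => enter [2, i]; rw [← sub_add_cancel (dn _ A B (z i)) (algebraMap B _ (z i)), add_pow]
      rw [Finset.prod_univ_sum]
      refine Finset.sum_congr rfl fun r _ => ?_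
      rw [Algebra.smul_def, map_mul, map_prod, map_natCast, Finset.prod_mul_distrib,
        Finset.prod_mul_distrib, Nat.cast_prod]
      simp only [map_pow]
      ring
    simp only [Dp, LinearMap.comp_apply, LinearMap.coe_restrictScalars, AlgHom.toLinearMap_apply,
      map_prod, map_pow]
    rw [hexp, map_sum]
    simp only [map_smul, smul_eq_mul]
    rw [Finset.sum_eq_single p]
    · rw [← hb' p ⟨p, le_rfl⟩]
      simp
    · intro r _ hr
      by_cases hrm : ∑ i, r i ≤ ∑ i, p i
      · rw [← hb' p ⟨r, hrm⟩, Module.Basis.coord_apply, Module.Basis.repr_self,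
          Finsupp.single_eq_of_ne (fun e => hr (congrArg Subtype.val e).symm), mul_zero]
      · have h0 : (∏ i, (dn (∑ i, p i) A B (z i) - algebraMap B _ (z i)) ^ r i) = 0 := by
          refine prod_eq_zero (Ideal.pow_le_pow_right (Nat.succ_le_of_lt (Nat.lt_of_not_le hrm)) ?_)
          exact (Finset.prod_pow_eq_pow_sum Finset.univ r (augIdeal (∑ i, p i) A B)).le
            (Ideal.prod_mem_prod fun i _ => Ideal.pow_mem_pow (dn_sub_mem (z i)) _)
        rw [h0, map_zero, mul_zero]
    · intro hp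
      obtain ⟨i, hi⟩ : ∃ i, q i < p i := by
        simpa [Fintype.mem_piFinset, Nat.lt_succ_iff, not_le] using hp
      rw [Finset.prod_eq_zero (Finset.mem_univ i) (Nat.choose_eq_zero_of_lt hi)]
      simp

theorem isDiffSmooth_of_Dp
    (hz : Submodule.span B (Set.range fun i => KaehlerDifferential.D A B (z i)) = ⊤)
    {Dp : (ι → ℕ) → (B →ₗ[A] B)} (hD : ∀ p, ∃ k : ℕ, IsDiffOpLE A B B B k (Dp p))
    (hDz : ∀ p q : ι → ℕ, Dp p (∏ i, z i ^ q i) =
      ((∏ i, Nat.choose (q i) (p i) : ℕ) : B) * ∏ i, z i ^ (q i - p i)) :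
    IsDiffSmooth A B ∧
      ∃ b : Module.Basis ι B (KaehlerDifferential A B), ∀ i, b i = KaehlerDifferential.D A B (z i) := by
  classical
  have hsum1 : ∀ i : ι, ∑ l, (Pi.single i 1 : ι → ℕ) l = 1 := fun i => by simp
  have hmon1 : ∀ i : ι, mon A z (Pi.single i 1) = zeta A (z i) := fun i => by
    rw [mon, Finset.prod_eq_single i]
    · simp
    · intro j _ hj; simp [Pi.single_eq_of_ne hj]
    · simp
  have hli : LinearIndependent B fun i => KaehlerDifferential.D A B (z i) := by
    rw [Fintype.linearIndependent_iff]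
    intro c hc i
    have hy : ∑ j, c j • zeta A (z j) ∈ KaehlerDifferential.ideal A B :=
      sum_mem fun j _ => Submodule.smul_of_tower_mem _ _ (zeta_mem A _)
    have h2 : ∑ j, c j • zeta A (z j) ∈ KaehlerDifferential.ideal A B ^ 2 := by
      simpa using sub_mem_sq A B hy (zero_mem _) (by
        simpa [zeta, Derivation.tensorProductTo_tmul] using hc)
    have h0 := lin_vanish (m := 1) (isDiffOpLE_mono (hsum1 i).le (isDiffOpLE_Dp hz hD hDz (Pi.single i 1))) h2
    simp only [map_sum, map_smul, ← hmon1, lin_Dp_mon hz hD hDz, smul_eq_mul, mul_ite, mul_one,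
      mul_zero] at h0
    rw [Finset.sum_eq_single i (fun j _ hj => if_neg fun e => hj ?_) (by simp), if_pos rfl] at h0
    · exact h0
    · by_contra hne
      have := congrFun e i
      simp [Pi.single_eq_of_ne (fun h => hne h.symm)] at this
  let bas : Module.Basis ι B (KaehlerDifferential A B) := Module.Basis.mk hli hz.ge
  have hb : ∀ i, bas i = KaehlerDifferential.D A B (z i) := fun i => Module.Basis.mk_apply _ _ i
  refine ⟨⟨Module.Projective.of_basis bas, fun κ _ => ⟨phi A B, phi_tprod_D A B, ?_, phi_surjective A B⟩⟩,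
    bas, hb⟩
  have hfin := finite_le ι (Fintype.card κ)
  cases nonempty_fintype {p : ι → ℕ // ∑ i, p i ≤ Fintype.card κ}
  let L : B ⊗[A] B →ₗ[B] MvPolynomial ι B :=
    ∑ p : {p : ι → ℕ // ∑ i, p i ≤ Fintype.card κ}, if ∑ i, p.1 i = Fintype.card κ then
      LinearMap.smulRight (lin (Dp p.1)) (MvPolynomial.monomial (Finsupp.equivFunOnFinite.symm p.1) 1)
      else 0
  have hL : ∀ x ∈ KaehlerDifferential.ideal A B ^ (Fintype.card κ + 1), L x = 0 := fun x hx => by
    rw [LinearMap.sum_apply]
    refine Finset.sum_eq_zero fun p _ => ?_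
    split_ifs
    · rw [LinearMap.smulRight_apply, lin_vanish (isDiffOpLE_Dp hz hD hDz p.1)
        (Ideal.pow_le_pow_right (Nat.succ_le_succ p.2) hx), zero_smul]
    · rfl
  let χ : grI A B (Fintype.card κ) →ₗ[B] MvPolynomial ι B :=
    Submodule.liftQ _ (L ∘ₗ Submodule.subtype _) fun y hy => hL _ hy
  suffices h : χ ∘ₗ phi A B = symPoly ∘ₗ symMap bas.repr.toLinearMap by
    refine Function.Injective.of_comp (f := χ) ?_
    rw [← LinearMap.coe_comp, h]
    refine symPoly_injective.comp (Function.LeftInverse.injective (g := symMap bas.repr.symm.toLinearMap) fun x => ?_)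
    refine LinearMap.congr_fun (sym_ext (f := symMap bas.repr.symm.toLinearMap ∘ₗ symMap bas.repr.toLinearMap)
      (g := LinearMap.id) fun y => ?_) x
    simp
  refine sym_ext fun x => ?_
  suffices key : (χ ∘ₗ phi A B).compMultilinearMap (SymmetricPower.tprod B) =
      (symPoly ∘ₗ symMap bas.repr.toLinearMap).compMultilinearMap
        (SymmetricPower.tprod B (M := KaehlerDifferential A B) (ι := κ)) from
    MultilinearMap.congr_fun key x
  refine Module.Basis.ext_multilinear (fun _ : κ => bas) fun t => ?_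
  let q : ι → ℕ := fun i => (Finset.univ.filter fun a => t a = i).card
  have hq : ∀ (R : Type u) [CommMonoid R] (f : ι → R), ∏ a, f (t a) = ∏ i, f i ^ q i := fun R _ f => by
    rw [← Finset.prod_fiberwise_of_maps_to (g := t) (t := Finset.univ) (fun _ _ => Finset.mem_univ _)]
    refine Finset.prod_congr rfl fun i _ => ?_
    rw [Finset.prod_congr rfl fun a ha => by rw [(Finset.mem_filter.1 ha).2], Finset.prod_const]
  have hqs : ∑ i, q i = Fintype.card κ :=
    (Finset.card_eq_sum_card_fiberwise fun _ _ => Finset.mem_univ _).symm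
  simp only [hb, LinearMap.compMultilinearMap_apply, LinearMap.comp_apply, phi_tprod_D,
    symPoly_symMap_tuple bas hb t q hq]
  change L (∏ a, zeta A (z (t a))) = _
  rw [hq (B ⊗[A] B) fun i => zeta A (z i), LinearMap.sum_apply,
    Finset.sum_eq_single (⟨q, hqs.le⟩ : {p : ι → ℕ // ∑ i, p i ≤ Fintype.card κ})]
  · rw [if_pos hqs, LinearMap.smulRight_apply]
    change lin (Dp q) (mon A z q) • _ = _
    rw [lin_Dp_mon hz hD hDz, if_pos rfl, one_smul]
  · intro p _ hp
    split_ifs
    · rw [LinearMap.smulRight_apply]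
      change lin (Dp p.1) (mon A z q) • _ = _
      rw [lin_Dp_mon hz hD hDz, if_neg fun e => hp (Subtype.ext e), zero_smul]
    · rfl
  · simp

end Groth.Agent.PPLib

end
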