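import Groth.Agent.PPLib.Graded
import Groth.Agent.DiffOps.Linearize

/-! Monomials in `ζ_i = 1 ⊗ z_i - z_i ⊗ 1` and differential operators with binomial values. -/

universe u w

set_option linter.unusedSectionVars false

noncomputable section

namespace Groth.Agent.PPLib

open PP16 TensorProduct Diff16 DiffOps

variable (A : Type u) {B : Type u} [CommRing A] [CommRing B] [Algebra A B]
variable {ι : Type w} [Fintype ι] [DecidableEq ι]

/-- `ζ` -/
def zeta (b : B) : B ⊗[A] B := (1 : B) ⊗ₜ[A] b - b ⊗ₜ[A] (1 : B)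

theorem zeta_mem (b : B) : zeta A b ∈ KaehlerDifferential.ideal A B :=
  KaehlerDifferential.one_smul_sub_smul_one_mem_ideal A b

/-- monomials in `ζ` -/
def mon (z : ι → B) (q : ι → ℕ) : B ⊗[A] B := ∏ i, zeta A (z i) ^ q i

theorem mon_mem (z : ι → B) (q : ι → ℕ) :
    mon A z q ∈ KaehlerDifferential.ideal A B ^ (∑ i, q i) := by
  rw [← Finset.prod_pow_eq_pow_sum]
  exact Ideal.prod_mem_prod fun i _ => Ideal.pow_mem_pow (zeta_mem A (z i)) _

theorem mon_zero (z : ι → B) : mon A z 0 = 1 := by simp [mon]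

theorem sum_update_succ (q : ι → ℕ) (i : ι) :
    ∑ j, Function.update q i (q i + 1) j = ∑ j, q j + 1 := by
  rw [Finset.sum_update_of_mem (Finset.mem_univ i), ← Finset.erase_eq,
    ← Finset.add_sum_erase _ q (Finset.mem_univ i)]
  omega

theorem prod_update_succ {R : Type*} [CommMonoid R] (x : ι → R) (q : ι → ℕ) (i : ι) :
    ∏ j, x j ^ Function.update q i (q i + 1) j = (∏ j, x j ^ q j) * x i := by
  rw [← Finset.mul_prod_erase _ _ (Finset.mem_univ i),
    ← Finset.mul_prod_erase _ (fun j => x j ^ q j) (Finset.mem_univ i), Function.update_self,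
    pow_succ, mul_right_comm]
  congr 2
  refine Finset.prod_congr rfl fun j hj => ?_
  rw [Function.update_of_ne (Finset.ne_of_mem_erase hj)]

theorem mon_update (z : ι → B) (q : ι → ℕ) (i : ι) :
    mon A z (Function.update q i (q i + 1)) = mon A z q * zeta A (z i) :=
  prod_update_succ (fun j => zeta A (z j)) q i

variable {A}
variable {z : ι → B} (hz : Submodule.span B (Set.range fun i => KaehlerDifferential.D A B (z i)) = ⊤)

include hz in
theorem ideal_le_span_sup :
    (KaehlerDifferential.ideal A B).restrictScalars B ≤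
      Submodule.span B (Set.range fun i => zeta A (z i)) ⊔
        (KaehlerDifferential.ideal A B ^ 2).restrictScalars B := by
  intro x hx
  obtain ⟨c, hc⟩ := (Submodule.mem_span_range_iff_exists_fun B).1
    (hz ▸ Submodule.mem_top : (KaehlerDifferential.D A B).tensorProductTo x ∈ _)
  have hy : ∑ i, c i • zeta A (z i) ∈ KaehlerDifferential.ideal A B :=
    sum_mem fun i _ => Submodule.smul_of_tower_mem _ _ (zeta_mem A _)
  refine Submodule.mem_sup.2 ⟨∑ i, c i • zeta A (z i),
    sum_mem fun i _ => Submodule.smul_mem _ _ (Submodule.subset_span ⟨i, rfl⟩),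
    x - ∑ i, c i • zeta A (z i), ?_, by abel⟩
  rw [Submodule.restrictScalars_mem]
  refine sub_mem_sq A B hx hy ?_
  rw [← hc, map_sum]
  refine Finset.sum_congr rfl fun i _ => ?_
  simp [zeta, Derivation.tensorProductTo_tmul]

include hz in
theorem pow_le_mon_sup (n : ℕ) :
    (KaehlerDifferential.ideal A B ^ n).restrictScalars B ≤
      Submodule.span B (mon A z '' {q | ∑ i, q i = n}) ⊔
        (KaehlerDifferential.ideal A B ^ (n + 1)).restrictScalars B := by
  induction n with
  | zero =>
    intro x hx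
    obtain ⟨p, hp, r, hr, rfl⟩ := Submodule.mem_sup.1 (pow_le_span_sup A B 0 hx)
    refine Submodule.add_mem_sup (Submodule.span_mono ?_ hp) hr
    rintro _ ⟨b, rfl⟩
    exact ⟨0, by simp, by simp [mon_zero]⟩
  | succ n ih =>
    intro x hx
    rw [Submodule.restrictScalars_mem, pow_succ] at hx
    induction hx using Submodule.mul_induction_on' with
    | add a _ b _ ha hb => exact add_mem ha hb
    | mem_mul_mem a ha c hc =>
      obtain ⟨p, hp, r, hr, rfl⟩ := Submodule.mem_sup.1 (ih ha)
      obtain ⟨p', hp', r', hr', rfl⟩ := Submodule.mem_sup.1 (ideal_le_span_sup hz hc)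
      have hpI : p ∈ KaehlerDifferential.ideal A B ^ n := by
        have h : Submodule.span B (mon A z '' {q | ∑ i, q i = n})
            ≤ (KaehlerDifferential.ideal A B ^ n).restrictScalars B := by
          rw [Submodule.span_le]
          rintro _ ⟨q, rfl : _ = n, rfl⟩
          exact mon_mem A z q
        exact h hp
      rw [mul_add, add_mul p r p', add_assoc (p * p')]
      refine Submodule.add_mem_sup ?_ (add_mem ?_ ?_)
      · have h := Submodule.mul_mem_mul hp hp'
        rw [Submodule.span_mul_span] at h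
        refine Submodule.span_mono ?_ h
        rintro _ ⟨_, ⟨q, rfl : _ = n, rfl⟩, _, ⟨i, rfl⟩, rfl⟩
        exact ⟨_, sum_update_succ q i, mon_update A z q i⟩
      · rw [Submodule.restrictScalars_mem, pow_succ _ (n + 1)]
        refine Ideal.mul_mem_mul hr ?_
        have h : Submodule.span B (Set.range fun i => zeta A (z i))
            ≤ (KaehlerDifferential.ideal A B).restrictScalars B := by
          rw [Submodule.span_le]
          rintro _ ⟨i, rfl⟩
          exact zeta_mem A _
        exact h hp'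
      · rw [Submodule.restrictScalars_mem, show n + 1 + 1 = n + 2 from rfl, pow_add]
        exact Ideal.mul_mem_mul
          (add_mem hpI (Ideal.pow_le_pow_right (Nat.le_succ n) hr)) hr'

include hz in
theorem mem_mon_sup (k : ℕ) (x : B ⊗[A] B) :
    x ∈ Submodule.span B (mon A z '' {q | ∑ i, q i < k}) ⊔
      (KaehlerDifferential.ideal A B ^ k).restrictScalars B := by
  induction k with
  | zero =>
    refine Submodule.mem_sup_right ?_
    rw [Submodule.restrictScalars_mem, pow_zero, Ideal.one_eq_top]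
    exact Submodule.mem_top
  | succ k ih =>
    obtain ⟨p, hp, r, hr, rfl⟩ := Submodule.mem_sup.1 ih
    obtain ⟨p', hp', r', hr', rfl⟩ := Submodule.mem_sup.1 (pow_le_mon_sup hz k hr)
    rw [← add_assoc]
    refine Submodule.add_mem_sup (add_mem (Submodule.span_mono ?_ hp) (Submodule.span_mono ?_ hp')) hr'
    · exact Set.image_mono fun q (hq : _ < k) => Nat.lt_succ_of_lt hq
    · exact Set.image_mono fun q (hq : _ = k) => Nat.lt_succ_of_le hq.le

include hz in
theorem span_mon_P (m : ℕ) :
    Submodule.span B (Set.range fun p : {p : ι → ℕ // ∑ i, p i ≤ m} => mkP m (mon A z p.1)) = ⊤ := by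
  rw [eq_top_iff]
  intro y _
  obtain ⟨x, rfl⟩ := Ideal.Quotient.mk_surjective y
  obtain ⟨p, hp, r, hr, rfl⟩ := Submodule.mem_sup.1 (mem_mon_sup hz (m + 1) x)
  rw [map_add, Ideal.Quotient.eq_zero_iff_mem.2 hr, add_zero]
  clear hr
  revert hp
  intro hp
  rename_i _top
  clear _top
  induction hp using Submodule.span_induction with
  | mem q hq =>
    obtain ⟨q, hq, rfl⟩ := hq
    exact Submodule.subset_span ⟨⟨q, Nat.le_of_lt_succ hq⟩, rfl⟩
  | zero => rw [map_zero]; exact zero_mem _
  | add a b _ _ ha hb => rw [map_add]; exact add_mem ha hb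
  | smul s a _ ha => exact Submodule.smul_mem _ s ha

/-- linearisation as a `B`-linear map -/
def lin (D : B →ₗ[A] B) : B ⊗[A] B →ₗ[B] B where
  toFun := linearize A B B B D
  map_add' := map_add _
  map_smul' c x := by
    rw [Algebra.smul_def, Algebra.TensorProduct.algebraMap_apply, Algebra.algebraMap_self,
      RingHom.id_apply]
    exact linearize_smul_left D c x

theorem lin_tmul (D : B →ₗ[A] B) (a b : B) : lin D (a ⊗ₜ[A] b) = a * D b := by
  simp [lin, linearize_tmul]

theorem lin_one (D : B →ₗ[A] B) : lin D 1 = D 1 := by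
  rw [Algebra.TensorProduct.one_def, lin_tmul, one_mul]

theorem lin_mul_zeta (D : B →ₗ[A] B) (c : B) (x : B ⊗[A] B) :
    lin D (x * zeta A c) = lin (commutator A B B B D c) x :=
  linearize_mul_gen D c x

theorem lin_vanish {m : ℕ} {D : B →ₗ[A] B} (hD : IsDiffOpLE A B B B m D) {x : B ⊗[A] B}
    (hx : x ∈ KaehlerDifferential.ideal A B ^ (m + 1)) : lin D x = 0 :=
  (isDiffOpLE_iff_linearize m D).1 hD x hx

include hz in
theorem lin_eq_zero {m : ℕ} {D : B →ₗ[A] B} (hD : IsDiffOpLE A B B B m D)
    (h : ∀ q, ∑ i, q i ≤ m → lin D (mon A z q) = 0) : D = 0 := by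
  refine (linearize_eq_zero_iff D).1 fun x => ?_
  change lin D x = 0
  obtain ⟨p, hp, r, hr, rfl⟩ := Submodule.mem_sup.1 (mem_mon_sup hz (m + 1) x)
  rw [map_add, lin_vanish hD hr, add_zero]
  induction hp using Submodule.span_induction with
  | mem q hq => obtain ⟨q, hq, rfl⟩ := hq; exact h q (Nat.le_of_lt_succ hq)
  | zero => exact map_zero _
  | add a b _ _ ha hb => rw [map_add, ha, hb, add_zero]
  | smul s a _ ha => rw [map_smul, ha, smul_zero]

theorem lin_mon_eq_zero {D : B →ₗ[A] B}
    (hv : ∀ q : ι → ℕ, D (∏ i, z i ^ q i) = 0) (q : ι → ℕ) : lin D (mon A z q) = 0 := by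
  induction hn : ∑ i, q i generalizing q D with
  | zero =>
    have : q = 0 := funext fun i => (Finset.sum_eq_zero_iff.1 hn) i (Finset.mem_univ i)
    subst this
    simpa [mon_zero, lin_one] using hv 0
  | succ n ih =>
    obtain ⟨i, -, hi⟩ := Finset.exists_ne_zero_of_sum_ne_zero (s := Finset.univ) (f := q) (by rw [hn]; exact Nat.succ_ne_zero n)
    obtain ⟨q', rfl⟩ : ∃ q', q = Function.update q' i (q' i + 1) :=
      ⟨Function.update q i (q i - 1), by simp [Nat.sub_add_cancel (Nat.pos_of_ne_zero hi)]⟩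
    rw [sum_update_succ] at hn
    rw [mon_update, lin_mul_zeta]
    refine ih (fun r => ?_) q' (Nat.succ_injective hn)
    have h1 : D (z i * ∏ j, z j ^ r j) = 0 := by
      rw [mul_comm, ← prod_update_succ z r i]; exact hv _
    simp [h1, hv r]

include hz in
theorem op_ext {m : ℕ} {D D' : B →ₗ[A] B} (hD : IsDiffOpLE A B B B m D)
    (hD' : IsDiffOpLE A B B B m D')
    (hv : ∀ q : ι → ℕ, D (∏ i, z i ^ q i) = D' (∏ i, z i ^ q i)) : D = D' :=
  sub_eq_zero.1 <| lin_eq_zero hz (isDiffOpLE_sub hD hD')
    fun q _ => lin_mon_eq_zero (fun r => by simp [hv r]) q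

variable {Dp : (ι → ℕ) → (B →ₗ[A] B)} (hD : ∀ p, ∃ k : ℕ, IsDiffOpLE A B B B k (Dp p))
  (hDz : ∀ p q : ι → ℕ, Dp p (∏ i, z i ^ q i) =
      ((∏ i, Nat.choose (q i) (p i) : ℕ) : B) * ∏ i, z i ^ (q i - p i))

include hz hD hDz in
theorem commutator_Dp (p : ι → ℕ) (i : ι) :
    commutator A B B B (Dp p) (z i) = if p i = 0 then 0 else Dp (Function.update p i (p i - 1)) := by
  obtain ⟨k, hk⟩ := hD p
  obtain ⟨k', hk'⟩ := hD (Function.update p i (p i - 1))
  have h1 : IsDiffOpLE A B B B (k + k') (commutator A B B B (Dp p) (z i)) :=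
    isDiffOpLE_succ hk (z i) |> isDiffOpLE_mono (Nat.le_add_right k k')
  have h2 : IsDiffOpLE A B B B (k + k') (if p i = 0 then 0 else Dp (Function.update p i (p i - 1))) := by
    split_ifs
    · exact isDiffOpLE_of_eq_zero _
    · exact isDiffOpLE_mono (Nat.le_add_left k' k) hk'
  refine op_ext hz h1 h2 fun q => ?_
  have key : z i * ∏ j, z j ^ q j = ∏ j, z j ^ Function.update q i (q i + 1) j := by
    rw [mul_comm, prod_update_succ z q i]
  rw [DiffOps.commutator_apply, smul_eq_mul, smul_eq_mul, key, hDz, hDz]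
  have hsplit : ∀ a b : ι → ℕ, ((∏ j, Nat.choose (a j) (b j) : ℕ) : B) * ∏ j, z j ^ (a j - b j) =
      ((Nat.choose (a i) (b i) : B) * z i ^ (a i - b i)) *
        ∏ j ∈ Finset.univ.erase i, ((Nat.choose (a j) (b j) : B) * z j ^ (a j - b j)) := by
    intro a b
    rw [Finset.mul_prod_erase _ (fun j => (Nat.choose (a j) (b j) : B) * z j ^ (a j - b j))
      (Finset.mem_univ i), Finset.prod_mul_distrib, Nat.cast_prod]
  rw [hsplit, hsplit, Function.update_self]
  have hrest : ∏ j ∈ Finset.univ.erase i, ((Nat.choose (Function.update q i (q i + 1) j) (p j) : B)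
        * z j ^ (Function.update q i (q i + 1) j - p j))
      = ∏ j ∈ Finset.univ.erase i, ((Nat.choose (q j) (p j) : B) * z j ^ (q j - p j)) :=
    Finset.prod_congr rfl fun j hj => by rw [Function.update_of_ne (Finset.ne_of_mem_erase hj)]
  rw [hrest]
  split_ifs with h
  · simp [h, pow_succ']; ring
  · obtain ⟨r, hr⟩ := Nat.exists_eq_succ_of_ne_zero h
    rw [hDz, hsplit q (Function.update p i (p i - 1)), Function.update_self]
    have hrest' : ∏ j ∈ Finset.univ.erase i, ((Nat.choose (q j) (Function.update p i (p i - 1) j) : B)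
          * z j ^ (q j - Function.update p i (p i - 1) j))
        = ∏ j ∈ Finset.univ.erase i, ((Nat.choose (q j) (p j) : B) * z j ^ (q j - p j)) :=
      Finset.prod_congr rfl fun j hj => by rw [Function.update_of_ne (Finset.ne_of_mem_erase hj)]
    rw [hrest', hr, ← mul_assoc (z i), ← sub_mul]
    congr 1
    rw [Nat.succ_sub_succ, Nat.succ_sub_one, Nat.choose_succ_succ, Nat.cast_add]
    rcases Nat.lt_or_ge r (q i) with h' | h'
    · rw [show q i - r = (q i - (r + 1)) + 1 by omega, pow_succ]
      ring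
    · rw [Nat.choose_eq_zero_of_lt (show q i < r + 1 by omega)]
      simp

include hz hD hDz in
theorem lin_Dp_mon (p q : ι → ℕ) : lin (Dp p) (mon A z q) = if p = q then 1 else 0 := by
  induction hn : ∑ i, q i generalizing q p with
  | zero =>
    have : q = 0 := funext fun i => (Finset.sum_eq_zero_iff.1 hn) i (Finset.mem_univ i)
    subst this
    have h1 : Dp p 1 = if p = 0 then 1 else 0 := by
      have h := hDz p 0
      simp only [Pi.zero_apply, pow_zero, Finset.prod_const_one, Nat.zero_sub, mul_one] at h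
      rw [h]
      split_ifs with hp
      · simp [hp]
      · obtain ⟨i, hi⟩ := Function.ne_iff.1 hp
        rw [Finset.prod_eq_zero (Finset.mem_univ i) (Nat.choose_eq_zero_of_lt (Nat.pos_of_ne_zero hi))]
        simp
    rw [mon_zero, lin_one, h1]
  | succ n ih =>
    obtain ⟨i, -, hi⟩ := Finset.exists_ne_zero_of_sum_ne_zero (s := Finset.univ) (f := q) (by rw [hn]; exact Nat.succ_ne_zero n)
    obtain ⟨q', rfl⟩ : ∃ q', q = Function.update q' i (q' i + 1) :=
      ⟨Function.update q i (q i - 1), by simp [Nat.sub_add_cancel (Nat.pos_of_ne_zero hi)]⟩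
    rw [sum_update_succ] at hn
    rw [mon_update, lin_mul_zeta, commutator_Dp hz hD hDz]
    by_cases hp : p i = 0
    · rw [if_pos hp, if_neg]
      · simp [lin]
        exact (linearize_eq_zero_iff (0 : B →ₗ[A] B)).2 rfl _
      · intro h; rw [h] at hp; simp at hp
    · rw [if_neg hp, ih _ _ (Nat.succ_injective hn)]
      refine if_congr ⟨fun h => ?_, fun h => ?_⟩ rfl rfl
      · subst h; simp [Nat.sub_add_cancel (Nat.pos_of_ne_zero hp)]
      · subst h; simp

include hz hD hDz in
theorem isDiffOpLE_Dp (p : ι → ℕ) : IsDiffOpLE A B B B (∑ i, p i) (Dp p) := by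
  rw [isDiffOpLE_iff_linearize]
  intro x hx
  change lin (Dp p) x = 0
  obtain ⟨k, hk⟩ := hD p
  suffices h : ∀ j, ∀ y ∈ KaehlerDifferential.ideal A B ^ (∑ i, p i + 1),
      ∃ r ∈ KaehlerDifferential.ideal A B ^ (∑ i, p i + 1 + j), lin (Dp p) y = lin (Dp p) r by
    obtain ⟨r, hr, hyr⟩ := h k x hx
    rw [hyr]
    exact lin_vanish hk (Ideal.pow_le_pow_right (by omega) hr)
  intro j
  induction j with
  | zero => exact fun y hy => ⟨y, hy, rfl⟩
  | succ j ih =>
    intro y hy
    obtain ⟨r, hr, hyr⟩ := ih y hy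
    obtain ⟨a, ha, b, hb, rfl⟩ := Submodule.mem_sup.1 (pow_le_mon_sup hz _ hr)
    refine ⟨b, hb, hyr.trans ?_⟩
    suffices h0 : lin (Dp p) a = 0 by rw [map_add, h0, zero_add]
    clear hr hyr
    induction ha using Submodule.span_induction with
    | mem q hq =>
      obtain ⟨q, hq, rfl⟩ := hq
      rw [lin_Dp_mon hz hD hDz, if_neg]
      intro h
      subst h
      simp only [Set.mem_setOf_eq] at hq
      omega
    | zero => exact map_zero _
    | add a b _ _ ha hb => rw [map_add, ha, hb, add_zero]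
    | smul s a _ ha => rw [map_smul, ha, smul_zero]

include hz hD hDz in
theorem existsUnique_expansion (m : ℕ) (D : B →ₗ[A] B) (hm : IsDiffOpLE A B B B m D) :
    ∃! a : {p : ι → ℕ // ∑ i, p i ≤ m} →₀ B, D = a.sum fun p c => c • Dp p.1 := by
  haveI : Finite {p : ι → ℕ // ∑ i, p i ≤ m} := by
    refine Finite.of_injective (β := ι → Fin (m + 1)) (fun p i => ⟨p.1 i,
      Nat.lt_succ_of_le ((Finset.single_le_sum (fun j _ => Nat.zero_le (p.1 j)) (Finset.mem_univ i)).trans p.2)⟩)
      fun p q h => Subtype.ext (funext fun i => congrArg Fin.val (congrFun h i))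
  cases nonempty_fintype {p : ι → ℕ // ∑ i, p i ≤ m}
  have hsum : ∀ (a : {p : ι → ℕ // ∑ i, p i ≤ m} →₀ B) (q : {p : ι → ℕ // ∑ i, p i ≤ m}),
      lin (a.sum fun p c => c • Dp p.1) (mon A z q.1) = a q := by
    intro a q
    have hl : ∀ x, lin (a.sum fun p c => c • Dp p.1) x = a.sum fun p c => c * lin (Dp p.1) x := by
      intro x
      induction x using TensorProduct.induction_on with
      | zero => simp
      | add x y hx hy => simp only [map_add, hx, hy, mul_add, Finsupp.sum_add]
      | tmul u v =>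
        simp only [lin_tmul, Finsupp.sum, LinearMap.sum_apply, LinearMap.smul_apply, smul_eq_mul,
          Finset.mul_sum]
        exact Finset.sum_congr rfl fun _ _ => by ring
    rw [hl, Finsupp.sum_fintype _ _ (by simp)]
    simp only [lin_Dp_mon hz hD hDz, ← Subtype.ext_iff, mul_ite, mul_one, mul_zero,
      Finset.sum_ite_eq', Finset.mem_univ, if_true]
  refine ⟨Finsupp.equivFunOnFinite.symm fun p => lin D (mon A z p.1), ?_, fun a ha => ?_⟩
  · refine sub_eq_zero.1 (lin_eq_zero hz (m := m) (isDiffOpLE_sub hm ?_) fun q hq => ?_)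
    · exact isDiffOpLE_sum _ fun p _ =>
        isDiffOpLE_smul _ (isDiffOpLE_mono p.2 (isDiffOpLE_Dp hz hD hDz p.1))
    · have hl : ∀ (D D' : B →ₗ[A] B) x, lin (D - D') x = lin D x - lin D' x := by
        intro D D' x
        induction x using TensorProduct.induction_on with
        | zero => simp
        | add x y hx hy => simp only [map_add, hx, hy]; abel
        | tmul u v => simp [lin_tmul, mul_sub]
      rw [hl, hsum _ ⟨q, hq⟩, Finsupp.equivFunOnFinite_symm_apply_apply, sub_self]
  · ext p
    rw [Finsupp.equivFunOnFinite_symm_apply_apply, ha, hsum]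

end Groth.Agent.PPLib

end
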