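import Groth.Agent.PPLib.Basic
import Groth.Agent.DiffOps.EtaleExt

/-! `P^n(M)` classifies differential operators out of `M`. -/

universe u

set_option linter.unusedSectionVars false

noncomputable section

namespace Groth.Agent.PPLib

open PP16 TensorProduct Diff16 DiffOps

variable {n : ℕ} {A B : Type u} [CommRing A] [CommRing B] [Algebra A B]
variable {M N : Type u} [AddCommGroup M] [Module A M] [Module B M] [IsScalarTower A B M]
  [AddCommGroup N] [Module A N] [Module B N] [IsScalarTower A B N]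

theorem isDiffOpLE_of_act : ∀ (k : ℕ) (D : M →ₗ[A] N),
    (∀ x ∈ RingHom.ker (mulHom A B B) ^ (k + 1), act D x = 0) → IsDiffOpLE A B M N k D := by
  have key : ∀ (k : ℕ) (D : M →ₗ[A] N), (∀ x ∈ RingHom.ker (mulHom A B B) ^ (k + 1), act D x = 0) →
      ∀ c : B, ∀ x ∈ RingHom.ker (mulHom A B B) ^ k, act (commutator A B M N D c) x = 0 := by
    intro k D h c x hx
    rw [← act_mul_gen]
    refine h _ ?_
    rw [pow_succ]
    exact Ideal.mul_mem_mul hx (by simp [RingHom.mem_ker, mulHom])
  intro k
  induction k with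
  | zero =>
    intro D h
    rw [isDiffOpLE_zero_iff]
    intro c
    ext m
    have h0 := LinearMap.congr_fun (key 0 D h c (1 : B ⊗[A] B) (by simp)) m
    rw [Algebra.TensorProduct.one_def, act_tmul, one_smul, one_smul] at h0
    exact h0
  | succ k ih => exact fun D h c => ih _ (key (k + 1) D h c)

/-- `x ↦ (m ↦ act)` after swapping the factors -/
def swapAct (D : M →ₗ[A] N) : B ⊗[A] B →ₗ[A] (M →ₗ[A] N) :=
  act D ∘ₗ (Algebra.TensorProduct.comm A B B).toLinearMap

theorem swapAct_tmul (D : M →ₗ[A] N) (u b : B) (m : M) :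
    swapAct D (u ⊗ₜ[A] b) m = u • D (b • m) := rfl

theorem comm_mem {x : B ⊗[A] B} {k : ℕ} (hx : x ∈ KaehlerDifferential.ideal A B ^ k) :
    Algebra.TensorProduct.comm A B B x ∈ RingHom.ker (mulHom A B B) ^ k := by
  have hle : (KaehlerDifferential.ideal A B).map (Algebra.TensorProduct.comm A B B : B ⊗[A] B →ₐ[A] B ⊗[A] B)
      ≤ RingHom.ker (mulHom A B B) := by
    rw [← KaehlerDifferential.span_range_eq_ideal, Ideal.map_span, Ideal.span_le]
    rintro _ ⟨_, ⟨b, rfl⟩, rfl⟩
    simp [RingHom.mem_ker, mulHom]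
  have h := Ideal.pow_right_mono hle k
  rw [← Ideal.map_pow] at h
  exact h (Ideal.mem_map_of_mem _ hx)

theorem comm_mem' {x : B ⊗[A] B} {k : ℕ} (hx : x ∈ RingHom.ker (mulHom A B B) ^ k) :
    Algebra.TensorProduct.comm A B B x ∈ KaehlerDifferential.ideal A B ^ k := by
  have hle : (RingHom.ker (mulHom A B B)).map (Algebra.TensorProduct.comm A B B : B ⊗[A] B →ₐ[A] B ⊗[A] B)
      ≤ KaehlerDifferential.ideal A B := by
    refine (Ideal.map_mono ker_mulHom_le).trans ?_
    rw [Ideal.map_span, Ideal.span_le]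
    rintro _ ⟨_, ⟨b, rfl⟩, rfl⟩
    simp [RingHom.mem_ker]
  have h := Ideal.pow_right_mono hle k
  rw [← Ideal.map_pow] at h
  exact h (Ideal.mem_map_of_mem _ hx)

/-- the class in `Pr` of a tensor -/
def mkPr (n : ℕ) (x : B ⊗[A] B) : Pr n A B := mkP n x

theorem mkPr_tmul_tmul (u b : B) (m : M) :
    mkPr (A := A) n (u ⊗ₜ[A] b) ⊗ₜ[B] m = algebraMap B (P n A B) u • dM n A B M (b • m) := by
  change _ = algebraMap B (P n A B) u • ((1 : Pr n A B) ⊗ₜ[B] (b • m))
  rw [← TensorProduct.smul_tmul b (1 : Pr n A B) m, TensorProduct.smul_tmul']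
  congr 1
  change mkP n (u ⊗ₜ[A] b) = algebraMap B (P n A B) u * (dn n A B b * 1)
  rw [mkP_tmul, mul_one]

theorem mkPr_add (x y : B ⊗[A] B) : mkPr (A := A) n (x + y) = mkPr n x + mkPr n y := rfl

theorem existsUnique_u (D : M →ₗ[A] N) (hD : IsDiffOpLE A B M N n D) :
    ∃! u : PM n A B M →+ N,
      (∀ (b : B) (t : PM n A B M), u (algebraMap B (P n A B) b • t) = b • u t) ∧
        ∀ m : M, u (dM n A B M m) = D m := by
  let g : P n A B →ₗ[A] (M →ₗ[A] N) :=
    Submodule.liftQ ((KaehlerDifferential.ideal A B ^ (n + 1)).restrictScalars A)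
        (swapAct D) (fun x hx => act_eq_zero n D hD _ (comm_mem hx)) ∘ₗ
      (Submodule.Quotient.restrictScalarsEquiv A _).symm.toLinearMap
  let f : Pr n A B →+ (M →+ N) :=
    AddMonoidHom.mk' (fun p => (g (show P n A B from p)).toAddMonoidHom) fun p q => by
      ext m
      exact LinearMap.congr_fun (map_add g (show P n A B from p) (show P n A B from q)) m
  have hf : ∀ (x : B ⊗[A] B) (m : M), f (mkPr n x) m = swapAct D x m := fun _ _ => rfl
  have hbal : ∀ (r : B) (p : Pr n A B) (m : M), f (r • p) m = f p (r • m) := by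
    intro r p m
    obtain ⟨x, rfl⟩ : ∃ x, mkPr n x = p := Ideal.Quotient.mk_surjective p
    have hr : r • mkPr n x = mkPr (A := A) n ((1 : B) ⊗ₜ[A] r * x) := rfl
    rw [hr, hf, hf]
    induction x using TensorProduct.induction_on with
    | zero => simp
    | tmul u b => simp [swapAct_tmul, mul_smul, smul_comm r b]
    | add x y hx hy => simp [mul_add, hx rfl, hy rfl]
  let u : PM n A B M →+ N := TensorProduct.liftAddHom f hbal
  have hu : ∀ (x : B ⊗[A] B) (m : M), u (mkPr n x ⊗ₜ[B] m) = swapAct D x m := fun _ _ => rfl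
  refine ⟨u, ⟨fun b t => ?_, fun m => ?_⟩, fun v hv => ?_⟩
  · induction t using TensorProduct.induction_on with
    | zero => simp
    | add x y hx hy => rw [smul_add, map_add, hx, hy, map_add, smul_add]
    | tmul p m =>
      obtain ⟨x, rfl⟩ : ∃ x, mkPr n x = p := Ideal.Quotient.mk_surjective p
      have hb : algebraMap B (P n A B) b • (mkPr n x ⊗ₜ[B] m) =
          mkPr (A := A) n ((b ⊗ₜ[A] (1 : B)) * x) ⊗ₜ[B] m := rfl
      rw [hb, hu, hu]
      clear hb
      induction x using TensorProduct.induction_on with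
      | zero => simp
      | tmul u b' => simp [swapAct_tmul, mul_smul]
      | add x y hx hy => simp [mul_add, hx, hy, smul_add]
  · change swapAct D ((1 : B) ⊗ₜ[A] (1 : B)) m = D m
    simp [swapAct_tmul]
  · ext t
    induction t using TensorProduct.induction_on with
    | zero => simp
    | add x y hx hy => rw [map_add, map_add, hx, hy]
    | tmul p m =>
      obtain ⟨x, rfl⟩ : ∃ x, mkPr n x = p := Ideal.Quotient.mk_surjective p
      rw [hu]
      induction x using TensorProduct.induction_on with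
      | zero => exact (congrArg v (TensorProduct.zero_tmul _ m)).trans (by simp)
      | tmul a b => rw [mkPr_tmul_tmul, hv.1, hv.2]; rfl
      | add x y hx hy =>
        have h : mkPr (A := A) n (x + y) ⊗ₜ[B] m = mkPr n x ⊗ₜ[B] m + mkPr n y ⊗ₜ[B] m := by
          rw [mkPr_add, TensorProduct.add_tmul]
        rw [h, map_add, hx, hy, map_add]; rfl

theorem isDiffOpLE_of_u (D : M →ₗ[A] N) (u : PM n A B M →+ N)
    (h₁ : ∀ (b : B) (t : PM n A B M), u (algebraMap B (P n A B) b • t) = b • u t)
    (h₂ : ∀ m : M, u (dM n A B M m) = D m) : IsDiffOpLE A B M N n D := by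
  refine isDiffOpLE_of_act n D fun y hy => ?_
  have key : ∀ (x : B ⊗[A] B) (m : M), swapAct D x m = u (mkPr n x ⊗ₜ[B] m) := by
    intro x m
    induction x using TensorProduct.induction_on with
    | zero => exact Eq.symm ((congrArg u (TensorProduct.zero_tmul _ m)).trans (by simp))
    | tmul a b => rw [mkPr_tmul_tmul, h₁, h₂]; rfl
    | add x z hx hz =>
      have h : mkPr (A := A) n (x + z) ⊗ₜ[B] m = mkPr n x ⊗ₜ[B] m + mkPr n z ⊗ₜ[B] m := by
        rw [mkPr_add, TensorProduct.add_tmul]
      rw [h, map_add, map_add, ← hx, ← hz]; rfl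
  ext m
  have h0 : mkPr (A := A) n (Algebra.TensorProduct.comm A B B y) = 0 :=
    Ideal.Quotient.eq_zero_iff_mem.2 (comm_mem' hy)
  have hyy : Algebra.TensorProduct.comm A B B (Algebra.TensorProduct.comm A B B y) = y := by
    clear hy h0
    induction y using TensorProduct.induction_on with
    | zero => simp
    | tmul a b => simp
    | add x z hx hz => simp [hx, hz]
  have := key (Algebra.TensorProduct.comm A B B y) m
  rw [h0, TensorProduct.zero_tmul, map_zero] at this
  rw [LinearMap.zero_apply, ← this]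
  change _ = act D (Algebra.TensorProduct.comm A B B (Algebra.TensorProduct.comm A B B y)) m
  rw [hyy]

end Groth.Agent.PPLib

end
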