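import Mathlib.RingTheory.Finiteness.Basic
import Mathlib.RingTheory.FiniteType
import Mathlib.RingTheory.FinitePresentation
import Mathlib.RingTheory.IntegralClosure.IsIntegralClosure.Basic
import Mathlib.RingTheory.Finiteness.ModuleFinitePresentation
import Mathlib.RingTheory.FiniteStability
import Mathlib.Algebra.Module.FinitePresentation
import Mathlib.RingTheory.Localization.Basic
import Mathlib.Tactic.LinearCombination
import Mathlib.Tactic.Ring
import Groth.Agent.PPLib.Basic

/-! Finiteness and localisation of principal parts. -/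

universe u

set_option linter.unusedSectionVars false

namespace Groth.Agent.PPLib

open PP16 TensorProduct

variable {n : ℕ} {A B : Type u} [CommRing A] [CommRing B] [Algebra A B]

theorem isIntegral_P : Algebra.IsIntegral B (P n A B) := by
  refine ⟨fun x => ?_⟩
  have hmem : x - algebraMap B _ (aug x) ∈ augIdeal n A B := by
    rw [← ker_aug, RingHom.mem_ker, map_sub, aug_algebraMap, sub_self]
  have hn : IsNilpotent (x - algebraMap B (P n A B) (aug x)) :=
    ⟨n + 1, prod_eq_zero (Ideal.pow_mem_pow hmem _)⟩
  obtain ⟨k, hk⟩ := hn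
  have h1 : IsIntegral B (x - algebraMap B (P n A B) (aug x)) :=
    ⟨Polynomial.X ^ k, Polynomial.monic_X_pow k, by simp [hk]⟩
  simpa using h1.add (isIntegral_algebraMap (x := aug x))

theorem finite_P [Algebra.FiniteType A B] : Module.Finite B (P n A B) := by
  have h1 : Algebra.FiniteType B (P n A B) :=
    Algebra.FiniteType.of_surjective
      (Ideal.Quotient.mkₐ B (KaehlerDifferential.ideal A B ^ (n + 1))) Ideal.Quotient.mk_surjective
  have := isIntegral_P (n := n) (A := A) (B := B)
  exact Algebra.IsIntegral.finite

theorem finitePresentation_P [Algebra.FinitePresentation A B] :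
    Module.FinitePresentation B (P n A B) := by
  have h1 : Algebra.FinitePresentation B (P n A B) :=
    Algebra.FinitePresentation.quotient (Ideal.FG.pow (KaehlerDifferential.ideal_fg A B))
  have := finite_P (n := n) (A := A) (B := B)
  exact Module.FinitePresentation.of_finite_of_finitePresentation _ _

theorem map_bijective_of_isLocalization (n : ℕ) (A A' B' : Type u) [CommRing A] [CommRing A']
    [CommRing B'] [Algebra A A'] [Algebra A' B'] [Algebra A B'] [IsScalarTower A A' B']
    (R : Submonoid A) [IsLocalization R A'] :
    Function.Bijective (PP16.map n A B' A' B') := by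
  refine ⟨(injective_iff_map_eq_zero _).2 fun x hx => ?_, fun y => ?_⟩
  · have hb : ∀ a, (dn n A B').toRingHom (algebraMap A' B' a) =
        algebraMap B' (P n A B') (algebraMap A' B' a) := fun a => by
      refine RingHom.congr_fun (IsLocalization.ringHom_ext R
        (j := (dn n A B').toRingHom.comp (algebraMap A' B'))
        (k := (algebraMap B' (P n A B')).comp (algebraMap A' B')) (RingHom.ext fun a => ?_)) a
      simp only [RingHom.comp_apply, ← IsScalarTower.algebraMap_apply A A' B']
      rw [AlgHom.toRingHom_eq_coe, RingHom.coe_coe, AlgHom.commutes, ← IsScalarTower.algebraMap_apply]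
    have h := ker_le_ker (n := n) (T := P n A B') id (PP16.map n A B' A' B').toRingHom (RingHom.id _)
      (fun b => (map_algebraMap n A B' A' B' b).trans (by rw [Algebra.algebraMap_self_apply]; rfl))
      (fun b => (map_dn n A B' A' B' b).trans (by rw [Algebra.algebraMap_self_apply]; rfl))
      (algebraMap B' (P n A B')) (dn n A B').toRingHom hb (fun b => rfl) (fun b => rfl)
      Function.surjective_id (x := x) hx
    exact RingHom.mem_ker.1 h
  · induction y using induction with
    | h0 => exact ⟨0, map_zero _⟩
    | hmul b c => exact ⟨algebraMap B' _ b * dn n A B' c, by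
        rw [map_mul, map_algebraMap, map_dn, Algebra.algebraMap_self_apply,
          Algebra.algebraMap_self_apply]⟩
    | hadd x y hx hy =>
      obtain ⟨a, ha⟩ := hx
      obtain ⟨a', ha'⟩ := hy
      exact ⟨a + a', by rw [map_add, ha, ha']⟩

attribute [local instance] PP16.mapAlgebra

theorem exists_localization_lift (n : ℕ) (A B B' : Type u) [CommRing A] [CommRing B] [Algebra A B]
    [CommRing B'] [Algebra B B'] [Algebra A B'] [IsScalarTower A B B'] (S : Submonoid B)
    [IsLocalization S B'] {Q : Type u} [CommRing Q] (ι : P n A B →+* Q)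
    (hu₁ : ∀ s : S, IsUnit ((ι.comp (algebraMap B (P n A B))) s)) :
    ∃ ψ : P n A B' →+* Q, ∀ p, ψ (PP16.map n A B A B' p) = ι p := by
  let J : Ideal Q := (augIdeal n A B).map ι
  have hJn : J ^ (n + 1) = ⊥ := augIdeal_map_pow ι
  have hdiff : ∀ b, ι (dn n A B b) - ι (algebraMap B _ b) ∈ J := fun b => by
    rw [← map_sub]; exact Ideal.mem_map_of_mem _ (dn_sub_mem b)
  have hu₂ : ∀ s : S, IsUnit ((ι.comp (dn n A B).toRingHom) s) := fun s => by
    have hn : IsNilpotent (ι (dn n A B s) - ι (algebraMap B _ (s : B))) :=
      ⟨n + 1, by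
        have := Ideal.pow_mem_pow (hdiff (s : B)) (n + 1)
        rwa [hJn] at this⟩
    have := hn.isUnit_add_left_of_commute (hu₁ s) (Commute.all _ _)
    simpa using this
  let f : B' →+* Q := IsLocalization.lift hu₁
  let g : B' →+* Q := IsLocalization.lift hu₂
  have hfg : ∀ x, g x - f x ∈ J := fun x => by
    obtain ⟨⟨b, s⟩, rfl⟩ := IsLocalization.mk'_surjective S x
    set x := IsLocalization.mk' B' b s
    have hs : x * algebraMap B B' s = algebraMap B B' b := IsLocalization.mk'_spec B' b s
    have h1 : g x * ι (dn n A B s) = ι (dn n A B b) := by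
      have := congrArg g hs
      rwa [map_mul, IsLocalization.lift_eq, IsLocalization.lift_eq] at this
    have h2 : f x * ι (algebraMap B _ (s : B)) = ι (algebraMap B _ b) := by
      have := congrArg f hs
      rwa [map_mul, IsLocalization.lift_eq, IsLocalization.lift_eq] at this
    refine (Ideal.mul_unit_mem_iff_mem J (hu₂ s)).1 ?_
    have h3 := J.sub_mem (hdiff b) (J.mul_mem_left (f x) (hdiff (s : B)))
    convert h3 using 1
    change (g x - f x) * ι (dn n A B s) = _
    linear_combination h1 - h2
  let : Algebra A Q := ((ι.comp (algebraMap B (P n A B))).comp (algebraMap A B)).toAlgebra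
  let fA : B' →ₐ[A] Q :=
    { f with
      commutes' := fun a => by
        change f (algebraMap A B' a) = _
        rw [IsScalarTower.algebraMap_apply A B B', IsLocalization.lift_eq]
        rfl }
  let gA : B' →ₐ[A] Q :=
    { g with
      commutes' := fun a => by
        change g (algebraMap A B' a) = _
        rw [IsScalarTower.algebraMap_apply A B B', IsLocalization.lift_eq]
        change ι (dn n A B (algebraMap A B a)) = ι (algebraMap B _ (algebraMap A B a))
        rw [AlgHom.commutes, ← IsScalarTower.algebraMap_apply] }
  let ψ := liftP (n := n) (T := Q) fA gA J hfg hJn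
  refine ⟨ψ.toRingHom, fun p => RingHom.congr_fun (ringHom_ext
    (f := ψ.toRingHom.comp (PP16.map n A B A B').toRingHom) (g := ι) (fun b => ?_) (fun b => ?_)) p⟩
  · change ψ (PP16.map n A B A B' (algebraMap B _ b)) = _
    rw [map_algebraMap, liftP_algebraMap]
    exact IsLocalization.lift_eq hu₁ b
  · change ψ (PP16.map n A B A B' (dn n A B b)) = _
    rw [map_dn, liftP_dn]
    exact IsLocalization.lift_eq hu₂ b

theorem isLocalization_P (n : ℕ) (A B B' : Type u) [CommRing A] [CommRing B] [Algebra A B]
    [CommRing B'] [Algebra B B'] [Algebra A B'] [IsScalarTower A B B'] (S : Submonoid B)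
    [IsLocalization S B'] :
    IsLocalization (S.map (algebraMap B (P n A B))) (P n A B') := by
  set M := S.map (algebraMap B (P n A B))
  suffices key : ∀ (Q : Type u) [CommRing Q] [Algebra (P n A B) Q] [IsLocalization M Q],
      Nonempty (Q ≃ₐ[P n A B] P n A B') from
    (key (Localization M)).elim fun e => IsLocalization.isLocalization_of_algEquiv M e
  intro Q _ _ _
  let ι : P n A B →+* Q := algebraMap _ _
  obtain ⟨ψ, hψ⟩ := exists_localization_lift n A B B' S (Q := Q) ι
    (fun s => IsLocalization.map_units Q (⟨_, s, s.2, rfl⟩ : M))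
  have hφu : ∀ m : M, IsUnit (algebraMap (P n A B) (P n A B') m) := by
    rintro ⟨_, s, hs, rfl⟩
    change IsUnit (PP16.map n A B A B' (algebraMap B _ s))
    rw [map_algebraMap]
    exact (IsLocalization.map_units B' (⟨s, hs⟩ : S)).map _
  let χ : Q →+* P n A B' := IsLocalization.lift hφu
  have hχ : ∀ p, χ (ι p) = PP16.map n A B A B' p := fun p => IsLocalization.lift_eq hφu p
  have hψχ : ∀ q, ψ (χ q) = q := fun q => by
    refine RingHom.congr_fun (IsLocalization.ringHom_ext M (j := ψ.comp χ)
      (k := RingHom.id Q) (RingHom.ext fun p => ?_)) q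
    change ψ (χ (ι p)) = ι p
    rw [hχ, hψ]
  have hχψ : ∀ y, χ (ψ y) = y := fun y => by
    refine RingHom.congr_fun (ringHom_ext (f := χ.comp ψ) (g := RingHom.id _)
      (fun x => ?_) (fun x => ?_)) y
    · refine RingHom.congr_fun (IsLocalization.ringHom_ext S
        (j := (χ.comp ψ).comp (algebraMap B' _))
        (k := (RingHom.id _).comp (algebraMap B' (P n A B'))) (RingHom.ext fun b => ?_)) x
      change χ (ψ (algebraMap B' _ (algebraMap B B' b))) = algebraMap B' _ (algebraMap B B' b)
      rw [← map_algebraMap n A B A B', hψ, hχ]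
    · refine RingHom.congr_fun (IsLocalization.ringHom_ext S
        (j := (χ.comp ψ).comp (dn n A B').toRingHom)
        (k := (RingHom.id _).comp (dn n A B').toRingHom) (RingHom.ext fun b => ?_)) x
      change χ (ψ (dn n A B' (algebraMap B B' b))) = dn n A B' (algebraMap B B' b)
      rw [← map_dn n A B A B', hψ, hχ]
  let e : Q ≃ₐ[P n A B] P n A B' :=
    { toFun := χ, invFun := ψ, left_inv := hψχ, right_inv := hχψ, map_mul' := map_mul χ,
      map_add' := map_add χ, commutes' := hχ }
  exact ⟨e⟩

end Groth.Agent.PPLib
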