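import Groth.Agent.PPLib.Graded
import Groth.Agent.PPLib.BaseChange
import Mathlib.RingTheory.Kaehler.TensorProduct
import Mathlib.LinearAlgebra.TensorProduct.Basis

/-! Differential smoothness is stable under base change. -/

universe u

set_option linter.unusedSectionVars false

noncomputable section

namespace Groth.Agent.PPLib

open PP16 TensorProduct

section

variable (A B : Type u) [CommRing A] [CommRing B] [Algebra A B]

theorem eq_phi {ι : Type u} [Fintype ι]
    {φ : SymmetricPower B ι (KaehlerDifferential A B) →ₗ[B] grI A B (Fintype.card ι)}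
    (h : ∀ b : ι → B, φ (SymmetricPower.tprod B (fun i => KaehlerDifferential.D A B (b i))) = zetaProd A B b) :
    φ = phi A B :=
  sym_ext_span (fun b => KaehlerDifferential.D A B b) (KaehlerDifferential.span_range_derivation A B)
    fun c => (h c).trans (phi_tprod_D A B c).symm

theorem phi_bijective_of_isDiffSmooth (h : IsDiffSmooth A B) (ι : Type u) [Fintype ι] :
    Function.Bijective (phi A B (ι := ι)) := by
  obtain ⟨φ, hφ, hbij⟩ := h.2 ι
  rwa [← eq_phi A B hφ]

theorem projective_grI (h : IsDiffSmooth A B) (n : ℕ) : Module.Projective B (grI A B n) := by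
  have := h.1
  obtain ⟨s, hs⟩ := Module.projective_def'.1 h.1
  suffices hh : Module.Projective B (grI A B (Fintype.card (ULift.{u} (Fin n)))) by
    rwa [show Fintype.card (ULift.{u} (Fin n)) = n by simp] at hh
  have : Module.Projective B (SymmetricPower B (ULift.{u} (Fin n)) (KaehlerDifferential A B)) := by
    obtain ⟨L, hL⟩ := symPoly_exists_leftInverse (R := B) (ι := ULift.{u} (Fin n))
      (σ := KaehlerDifferential A B)
    refine Module.Projective.of_split (symPoly ∘ₗ symMap s)
      (symMap (Finsupp.linearCombination B id) ∘ₗ L) (LinearMap.ext fun x => ?_)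
    simp only [LinearMap.comp_apply, ← LinearMap.comp_apply L, hL, LinearMap.id_apply]
    refine LinearMap.congr_fun (sym_ext (f := symMap (Finsupp.linearCombination B id) ∘ₗ symMap s)
      (g := LinearMap.id) fun y => ?_) x
    simp [← LinearMap.comp_apply (Finsupp.linearCombination B id), hs]
  exact Module.Projective.of_equiv (LinearEquiv.ofBijective _ (phi_bijective_of_isDiffSmooth A B h _))

variable {A B} {V : Type u} [AddCommGroup V] [Module B V]

theorem exists_extend (hgr : ∀ k, Module.Projective B (grI A B k)) (n : ℕ)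
    (f : ↥((KaehlerDifferential.ideal A B ^ n).restrictScalars B) →ₗ[B] V) :
    ∃ L : B ⊗[A] B →ₗ[B] V, ∀ x : ↥((KaehlerDifferential.ideal A B ^ n).restrictScalars B), L x = f x := by
  induction n with
  | zero =>
    have htop : ∀ x : B ⊗[A] B, x ∈ (KaehlerDifferential.ideal A B ^ 0).restrictScalars B := fun x => by
      rw [Submodule.restrictScalars_mem, pow_zero, Ideal.one_eq_top]; exact Submodule.mem_top
    exact ⟨f ∘ₗ LinearMap.codRestrict _ LinearMap.id htop, fun x => rfl⟩
  | succ n ih =>
    have := hgr n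
    let q := Submodule.mkQ (((KaehlerDifferential.ideal A B ^ (n + 1)).restrictScalars B).comap
      ((KaehlerDifferential.ideal A B ^ n).restrictScalars B).subtype)
    obtain ⟨s, hs⟩ := Module.projective_lifting_property q LinearMap.id (Submodule.mkQ_surjective _)
    let d : ↥((KaehlerDifferential.ideal A B ^ n).restrictScalars B) →ₗ[B]
        ↥((KaehlerDifferential.ideal A B ^ n).restrictScalars B) := LinearMap.id - s ∘ₗ q
    have hmem : ∀ x, d x ∈ ((KaehlerDifferential.ideal A B ^ (n + 1)).restrictScalars B).comap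
        ((KaehlerDifferential.ideal A B ^ n).restrictScalars B).subtype := fun x => by
      rw [← Submodule.Quotient.mk_eq_zero, ← Submodule.mkQ_apply]
      change q (x - s (q x)) = 0
      rw [map_sub, ← LinearMap.comp_apply q s, hs, LinearMap.id_apply, sub_self]
    let pr : ↥((KaehlerDifferential.ideal A B ^ n).restrictScalars B) →ₗ[B]
        ↥((KaehlerDifferential.ideal A B ^ (n + 1)).restrictScalars B) :=
      LinearMap.codRestrict _ (Submodule.subtype _ ∘ₗ d) hmem
    obtain ⟨L, hL⟩ := ih (f ∘ₗ pr)
    refine ⟨L, fun x => ?_⟩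
    have hxn : (x : B ⊗[A] B) ∈ (KaehlerDifferential.ideal A B ^ n).restrictScalars B :=
      Ideal.pow_le_pow_right (Nat.le_succ n) x.2
    rw [show (x : B ⊗[A] B) = ((⟨x, hxn⟩ : ↥((KaehlerDifferential.ideal A B ^ n).restrictScalars B)) : B ⊗[A] B)
      from rfl, hL]
    refine congrArg f (Subtype.ext ?_)
    have hq : q ⟨x, hxn⟩ = 0 := (Submodule.Quotient.mk_eq_zero _).2 x.2
    change ((⟨x, hxn⟩ : ↥((KaehlerDifferential.ideal A B ^ n).restrictScalars B)) - s (q ⟨x, hxn⟩)).1 = x
    rw [hq, map_zero, sub_zero]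

end

theorem map_linForm_mapRange {B B' : Type u} [CommRing B] [CommRing B'] [Algebra B B'] {σ : Type u}
    (v : σ →₀ B) :
    linForm (v.mapRange (algebraMap B B') (map_zero _)) = MvPolynomial.map (algebraMap B B') (linForm v) := by
  induction v using Finsupp.induction_linear with
  | zero => simp
  | add x y hx hy => rw [Finsupp.mapRange_add (map_add (algebraMap B B')), map_add, hx, hy, map_add, map_add]
  | single s r =>
    rw [Finsupp.mapRange_single, linForm_single, linForm_single, MvPolynomial.smul_eq_C_mul,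
      MvPolynomial.smul_eq_C_mul]
    simp

attribute [local instance] PP16.mapAlgebra PP16.isScalarTower_mapAlgebra

/-- extension of a functional on principal parts along a base change -/
theorem exists_baseChange_functional (n : ℕ) (A B A' B' : Type u) [CommRing A] [CommRing B] [Algebra A B]
    [CommRing A'] [CommRing B'] [Algebra A' B'] [Algebra A A'] [Algebra B B'] [Algebra A B']
    [IsScalarTower A A' B'] [IsScalarTower A B B'] [Algebra.IsPushout A B A' B']
    {V : Type u} [AddCommGroup V] [Module B V] [Module B' V] [IsScalarTower B B' V]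
    (L : B ⊗[A] B →ₗ[B] V) (hL : ∀ x ∈ KaehlerDifferential.ideal A B ^ (n + 1), L x = 0) :
    ∃ L' : B' ⊗[A'] B' →ₗ[B'] V, (∀ x ∈ KaehlerDifferential.ideal A' B' ^ (n + 1), L' x = 0) ∧
      ∀ x, L' (tensorMap A B A' B' x) = L x := by
  have hpo : Algebra.IsPushout B B' (P n A B) (P n A' B') := (isPushout_P n A B A' B').symm
  let g : P n A B →ₗ[B] V :=
    Submodule.liftQ ((KaehlerDifferential.ideal A B ^ (n + 1)).restrictScalars B) L hL ∘ₗ
      (Submodule.Quotient.restrictScalarsEquiv B _).symm.toLinearMap
  refine ⟨hpo.out.lift g ∘ₗ (Ideal.Quotient.mkₐ B' _).toLinearMap, fun x hx => ?_, fun x => ?_⟩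
  · rw [LinearMap.comp_apply, AlgHom.toLinearMap_apply, Ideal.Quotient.mkₐ_eq_mk,
      Ideal.Quotient.eq_zero_iff_mem.2 hx, map_zero]
  · exact hpo.out.lift_eq g (mkP n x)

theorem isDiffSmooth_baseChange (A B A' B' : Type u) [CommRing A] [CommRing B] [Algebra A B]
    [CommRing A'] [CommRing B'] [Algebra A' B'] [Algebra A A'] [Algebra B B'] [Algebra A B']
    [IsScalarTower A A' B'] [IsScalarTower A B B'] [Algebra.IsPushout A B A' B']
    (h : IsDiffSmooth A B) : IsDiffSmooth A' B' := by
  classical
  haveI : Algebra.IsPushout A A' B B' := Algebra.IsPushout.symm inferInstance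
  obtain ⟨s, hs⟩ := Module.projective_def'.1 h.1
  let σ := KaehlerDifferential A B
  let e := KaehlerDifferential.tensorKaehlerEquiv A A' B B'
  let eσ : B' ⊗[B] (σ →₀ B) ≃ₗ[B'] (σ →₀ B') := TensorProduct.finsuppScalarRight B B' B' σ
  let j' : KaehlerDifferential A' B' →ₗ[B'] σ →₀ B' := eσ.toLinearMap ∘ₗ s.baseChange B' ∘ₗ e.symm.toLinearMap
  let r' : (σ →₀ B') →ₗ[B'] KaehlerDifferential A' B' :=
    e.toLinearMap ∘ₗ (Finsupp.linearCombination B id).baseChange B' ∘ₗ eσ.symm.toLinearMap
  have hjr : r' ∘ₗ j' = LinearMap.id := by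
    refine LinearMap.ext fun x => ?_
    simp only [r', j', LinearMap.comp_apply, LinearEquiv.coe_coe, LinearEquiv.symm_apply_apply,
      ← LinearMap.comp_apply ((Finsupp.linearCombination B id).baseChange B'), ← LinearMap.baseChange_comp, hs,
      LinearMap.baseChange_id, LinearMap.id_apply, LinearEquiv.apply_symm_apply]
  have hj' : ∀ b : B, j' (KaehlerDifferential.D A' B' (algebraMap B B' b)) =
      (s (KaehlerDifferential.D A B b)).mapRange (algebraMap B B') (map_zero _) := by
    intro b
    have he : e ((1 : B') ⊗ₜ[B] KaehlerDifferential.D A B b) =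
        KaehlerDifferential.D A' B' (algebraMap B B' b) := by simp [e]
    rw [← he]
    simp only [j', LinearMap.comp_apply, LinearEquiv.coe_coe, LinearEquiv.symm_apply_apply,
      LinearMap.baseChange_tmul]
    ext i
    simp [eσ, Algebra.smul_def]
  have hgen : Submodule.span B' (Set.range fun b : B =>
      KaehlerDifferential.D A' B' (algebraMap B B' b)) = ⊤ := by
    rw [eq_top_iff]
    rintro y -
    obtain ⟨x, rfl⟩ := e.surjective y
    induction x using TensorProduct.induction_on with
    | zero => rw [map_zero]; exact zero_mem _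
    | add x y hx hy => rw [map_add]; exact add_mem hx hy
    | tmul a ω =>
      have hω : ω ∈ Submodule.span B (Set.range (KaehlerDifferential.D A B)) := by
        rw [KaehlerDifferential.span_range_derivation]; trivial
      induction hω using Submodule.span_induction generalizing a with
      | mem ω hω =>
        obtain ⟨b, rfl⟩ := hω
        rw [KaehlerDifferential.tensorKaehlerEquiv_tmul_D]
        exact Submodule.smul_mem _ _ (Submodule.subset_span ⟨b, rfl⟩)
      | zero => rw [TensorProduct.tmul_zero, map_zero]; exact zero_mem _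
      | add x y _ _ hx hy => rw [TensorProduct.tmul_add, map_add]; exact add_mem (hx a) (hy a)
      | smul c x _ hx => rw [← TensorProduct.smul_tmul]; exact hx _
  refine ⟨Module.Projective.of_split j' r' hjr, fun ι _ => ⟨phi A' B', phi_tprod_D A' B', ?_, phi_surjective A' B'⟩⟩
  let φe := LinearEquiv.ofBijective _ (phi_bijective_of_isDiffSmooth A B h ι)
  let g : grI A B (Fintype.card ι) →ₗ[B] MvPolynomial σ B' :=
    (MvPolynomial.mapAlgHom (Algebra.ofId B B')).toLinearMap ∘ₗ symPoly ∘ₗ symMap s ∘ₗ φe.symm.toLinearMap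
  let f : ↥((KaehlerDifferential.ideal A B ^ Fintype.card ι).restrictScalars B) →ₗ[B] MvPolynomial σ B' :=
    g ∘ₗ Submodule.mkQ _
  obtain ⟨L, hL⟩ := exists_extend (projective_grI A B h) _ f
  have hL0 : ∀ x ∈ KaehlerDifferential.ideal A B ^ (Fintype.card ι + 1), L x = 0 := fun x hx => by
    have hxn : x ∈ (KaehlerDifferential.ideal A B ^ Fintype.card ι).restrictScalars B :=
      Ideal.pow_le_pow_right (Nat.le_succ _) hx
    rw [show x = ((⟨x, hxn⟩ : ↥((KaehlerDifferential.ideal A B ^ Fintype.card ι).restrictScalars B)) : B ⊗[A] B) from rfl, hL]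
    have h0 : (Submodule.Quotient.mk ⟨x, hxn⟩ : grI A B (Fintype.card ι)) = 0 :=
      (Submodule.Quotient.mk_eq_zero _).2 hx
    exact (congrArg g h0).trans (map_zero g)
  obtain ⟨L', hL', hLL'⟩ := exists_baseChange_functional (Fintype.card ι) A B A' B' L hL0
  let χ : grI A' B' (Fintype.card ι) →ₗ[B'] MvPolynomial σ B' :=
    Submodule.liftQ _ (L' ∘ₗ Submodule.subtype _) fun y hy => hL' _ hy
  suffices hh : χ ∘ₗ phi A' B' = symPoly ∘ₗ symMap j' by
    refine Function.Injective.of_comp (f := χ) ?_
    rw [← LinearMap.coe_comp, hh]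
    exact symPoly_symMap_injective j' r' hjr
  refine sym_ext_span (fun b : B => KaehlerDifferential.D A' B' (algebraMap B B' b)) hgen fun c => ?_
  simp only [LinearMap.comp_apply, phi_tprod_D, symMap_tprod, symPoly_tprod, hj', map_linForm_mapRange]
  change L' (∏ i, ((1 : B') ⊗ₜ[A'] algebraMap B B' (c i) - algebraMap B B' (c i) ⊗ₜ[A'] (1 : B'))) = _
  have hm : ∏ i, ((1 : B') ⊗ₜ[A'] algebraMap B B' (c i) - algebraMap B B' (c i) ⊗ₜ[A'] (1 : B'))
      = tensorMap A B A' B' (∏ i, ((1 : B) ⊗ₜ[A] c i - c i ⊗ₜ[A] (1 : B))) := by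
    rw [map_prod]
    refine Finset.prod_congr rfl fun i _ => ?_
    rw [map_sub, tensorMap_tmul, tensorMap_tmul, map_one]
  have hmem : (∏ i, ((1 : B) ⊗ₜ[A] c i - c i ⊗ₜ[A] (1 : B))) ∈
      (KaehlerDifferential.ideal A B ^ Fintype.card ι).restrictScalars B :=
    prod_mem_pow _ Finset.univ _ fun i _ => KaehlerDifferential.one_smul_sub_smul_one_mem_ideal A (c i)
  rw [hm, hLL']
  refine (hL ⟨_, hmem⟩).trans ?_
  change g (Submodule.Quotient.mk ⟨_, hmem⟩) = _
  rw [show (Submodule.Quotient.mk ⟨_, hmem⟩ : grI A B (Fintype.card ι)) = φe (SymmetricPower.tprod B fun i => KaehlerDifferential.D A B (c i)) from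
    (phi_tprod_D A B c).symm]
  simp only [g, LinearMap.comp_apply, LinearEquiv.coe_coe, LinearEquiv.symm_apply_apply, symMap_tprod, symPoly_tprod]
  rw [AlgHom.toLinearMap_apply, map_prod]
  rfl

end Groth.Agent.PPLib

end
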